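import Cfsg.Agent.Co3U.Glob.Rels
import Cfsg.Agent.Co3U.ModelFacts

/-!
# The eight letters in the matrix cover
-/

set_option autoImplicit false

namespace CfsgLib.Co3U.Glob

open CfsgLib.Coset

/-- The relators of the letters `0`–`5`. -/
def rels6 : List (List Nat) :=
  [[0, 1], [1, 0], [2, 3], [3, 2], [4, 4], [5, 5]] ++ McLUniq.relsH ++ relsA ++ relsB

/-- The inverse of a word in the eight letters. -/
def inv8 (w : List Nat) : List Nat := (w.map iv8).reverse

/-- A word in the twelve letters of `Co3U.Data.gens` as a word in the eight letters. -/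
def sub8 (w : List Nat) : List Nat :=
  w.flatMap fun l => if l < 6 then gensW.getD l [] else inv8 (gensW.getD (l - 6) [])

/-- The letters in the matrix group; the seventh, not in it, is replaced by one. -/
def LM8 : List Facts.M8 := gamW.map Facts.gw

theorem LM8_len : LM8.length = 8 := rfl

theorem fl_LM8_mem (l : Nat) : fl LM8 l ∈ Gam := by
  rcases lt_or_ge l LM8.length with h | h
  · rw [fl, List.getD_eq_getElem _ _ h]
    simp only [LM8, List.getElem_map]
    exact Facts.gw_mem _
  · rw [fl_of_le LM8 h]
    exact one_mem _

theorem ev_LM8_mem (w : List Nat) : ev LM8 w ∈ Gam := by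
  induction w with
  | nil => rw [ev_nil]; exact one_mem _
  | cons l w ih => rw [ev_cons]; exact mul_mem (fl_LM8_mem l) ih

end CfsgLib.Co3U.Glob
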