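import Cfsg.Agent.McLUniq.Rels

/-!
# Eight letters and their relators for the third Conway group

Letters `0`–`6` are those of McLaughlin's group inside the third Conway group, letter `7` is an involution
commuting with the two involutions and completing the letters `0`–`5` to the whole involution centralizer.
-/

set_option autoImplicit false

namespace CfsgLib.Co3U.Glob

open CfsgLib.Coset

/-- The inverse of a letter. -/
def iv8 (x : Nat) : Nat := ([1, 0, 3, 2, 4, 5, 6, 7] : List Nat).getD x x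

/-- Further relators among the first four letters. -/
def relsA : List (List Nat) := [[2, 2, 2]]

/-- Further relators among the first six letters. -/
def relsB : List (List Nat) := [[3, 4, 5, 4, 2, 1, 3, 5, 2, 1]]

/-- Relators of the eighth letter inside the involution centralizer. -/
def relsC : List (List Nat) := [[0, 2, 0, 7, 1, 7, 2, 0, 3],
  [5, 7, 3, 7, 1, 5, 7, 3, 7, 1],
  [5, 7, 4, 7, 4, 5, 7, 5, 7, 4]]

/-- The conjugate of the eighth letter under the seventh, in the letters `0`–`3` and `7`. -/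
def awW : List Nat := [0, 2, 7, 1, 2, 7]

/-- The relator saying so. -/
def relConj : List Nat := [6, 7, 6, 7, 3, 0, 7, 3, 1]

/-- The relators inside the involution centralizer. -/
def relsCen : List (List Nat) :=
  [[0, 1], [1, 0], [2, 3], [3, 2], [4, 4], [5, 5], [7, 7]] ++ McLUniq.relsH ++ relsA ++ relsB ++ relsC

/-- All relators. -/
def rels8 : List (List Nat) :=
  McLUniq.rels ++ [[7, 7]] ++ relsA ++ relsB ++ relsC ++ [relConj]

/-- Eight elements satisfying the relators. -/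
structure Rels8 {G : Type*} [Group G] (L : List G) : Prop where
  len : L.length = 8
  rel : ∀ w ∈ rels8, ev L w = 1

/-- The letters `0`–`5` and `7` as words in the generators of the matrix cover (`Co3U.Data.gens`). -/
def gamW : List (List Nat) := [[0, 2, 0, 3, 1, 2, 0, 1, 2, 4, 3, 2, 1, 5, 4, 3, 2, 0, 7, 2, 1, 3, 2, 0, 4, 1, 2, 3, 2, 7, 11],
  [2, 1, 2, 3, 2, 0, 1, 2, 3, 1, 5, 4, 3, 2, 0, 7, 2, 1, 3, 2, 0, 4, 1, 3, 2, 1, 5, 4, 3, 2, 0],
  [1, 2, 1, 3, 2, 0, 4, 1, 2, 3, 1, 2, 0, 4, 1, 2, 3, 1, 2, 1, 11],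
  [1, 2, 0, 1, 3, 2, 0, 5, 1, 2, 3, 4, 3, 2, 0, 1, 2, 3, 1, 2, 7],
  [3, 1, 2, 0, 1, 4, 3, 2, 5, 1, 4, 3, 2, 0, 1, 2, 3, 1, 2, 0, 1, 2, 4, 3, 2, 5, 1, 4, 9],
  [2, 1, 2, 0, 3, 2, 0, 4, 1, 2, 3, 2, 0, 4, 1, 2, 3, 1, 2, 4, 1],
  [],
  [3, 1, 2, 0, 4, 1, 2, 3, 2, 0, 1, 2, 5, 4, 9]]

/-- The six generators of the matrix cover as words in the letters `0`–`5` and `7`. -/
def gensW : List (List Nat) := [[7, 4, 0, 3, 5, 2, 4, 7],
  [2, 0, 5, 4, 2],
  [0, 3, 4, 7, 5, 0, 4, 7, 0, 0, 4, 7],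
  [0, 0, 2, 1, 4, 2],
  [4, 2, 5, 3, 0, 0, 4],
  [2, 0, 5, 1, 4, 3, 4, 5]]

/-- Equal products of the sources of the conjugation and unequal ones of the targets, one pair for each wrong
value of the conjugate of the eighth letter. -/
def refuteW : List (List Nat × List Nat) := [([3, 2, 3, 2], [0, 3, 2, 0]),
  ([3, 2, 3, 2], [0, 3, 2, 0]),
  ([3, 2, 3, 2], [0, 3, 2, 0]),
  ([3, 3], []),
  ([3, 3], []),
  ([3, 3], []),
  ([3, 3], []),
  ([3, 3], []),
  ([3, 3], []),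
  ([3, 3], []),
  ([3, 3], []),
  ([1, 0, 2, 3], [0, 2, 3, 1]),
  ([1, 0, 2, 3], [0, 2, 3, 1]),
  ([1, 0, 2, 3], [0, 2, 3, 1]),
  ([1, 0, 2, 3], [0, 2, 3, 1])]

end CfsgLib.Co3U.Glob
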