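import Cfsg.Agent.Coset.Blocks
import Cfsg.Agent.Co3U.Glob.Rels
import Mathlib.Tactic.IntervalCases
import Cfsg.Agent.Co3U.Glob.T0Data

/-! The checks of a coset table with 384 cosets. -/

set_option autoImplicit false
set_option maxRecDepth 100000
set_option Elab.async false

namespace CfsgLib.Co3U.Glob.T0

open CfsgLib.Coset

theorem hR : checkRules rels subs R = true := by decide +kernel
theorem hdefs : checkDefs E 4 9 393 = true := by decide +kernel
theorem hsteps : checkChunks E (Glob.iv8) R 4 3 393 7 C = true := by decide +kernel
theorem htable : checkTable E (Glob.iv8) (393 + chunk * 7) 384 4 9 2 Rep Ref Tb = true := by decide +kernel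

end CfsgLib.Co3U.Glob.T0
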