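import Cfsg.Agent.Coset.Blocks
import Cfsg.Agent.Co3U.Glob.Rels
import Mathlib.Tactic.IntervalCases
import Cfsg.Agent.Co3U.Glob.T2Data

/-! The checks of a coset table with 552 cosets. -/

set_option autoImplicit false
set_option maxRecDepth 100000
set_option Elab.async false

namespace CfsgLib.Co3U.Glob.T2

open CfsgLib.Coset

theorem hR : checkRules rels subs R = true := by decide +kernel
theorem hdefs : checkDefs E 8 10 859 = true := by decide +kernel
theorem hsteps0 : belowBlock 5 39 (chunkAt E (Glob.iv8) R 8 859 C) 0 = true := by decide +kernel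
theorem hsteps1 : belowBlock 5 39 (chunkAt E (Glob.iv8) R 8 859 C) 1 = true := by decide +kernel
theorem hsteps : checkChunks E (Glob.iv8) R 8 (5 + 1) 859 39 C = true :=
  checkChunks_of_blocks (by decide +kernel) fun b hb => by
    have : b < 2 := hb
    interval_cases b
    · exact hsteps0
    · exact hsteps1
theorem htable : checkTable E (Glob.iv8) (859 + chunk * 39) 552 8 10 3 Rep Ref Tb = true := by decide +kernel

end CfsgLib.Co3U.Glob.T2
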