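import Cfsg.Agent.Co3U.Glob.Base
import Cfsg.Agent.Co3U.Glob.T0
import Cfsg.Agent.Co3U.Glob.T1
import Cfsg.Agent.Co3U.Glob.T2
import Cfsg.Agent.McLUniq.Model

/-!
# Order bounds for the letters of the third Conway group

The first four letters generate at most `384` elements, the first six at most `105 * 384 = 40320`, the
first seven at most the order of McLaughlin's group, and all eight at most `552` times as many.
-/

set_option autoImplicit false
set_option maxRecDepth 100000

namespace CfsgLib.Co3U.Glob

open Subgroup CfsgLib.Coset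

variable {G : Type*} [Group G] {L : List G}

/-- One level of the chain. -/
theorem level {k j : Nat} (hl : L.length = k) (hk : k ≤ 8) (hj : j ≤ k) {rels : List (List Nat)}
    (hrel : ∀ w ∈ rels, ev L w = 1)
    (hp : (List.range j).all (fun x => rels.contains [x, iv8 x] && decide (iv8 x < j)) = true)
    (hout : ((List.range 8).drop j).all (fun x => Nat.ble j (iv8 x)) = true)
    {S' : List Nat} {rs subs : List (List Nat)} {E Rep Tb : Nat → Nat} {n : Nat}
    {R : Tr (List Nat × Nat)} {d d' N nC dn dk : Nat} {C Ref : Nat → Nat} (hn : 0 < n)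
    (hc : checkLevel rels k (List.range j) S' rs subs = true)
    (hR : checkRules rs subs R = true) (hd : checkDefs E j d' N = true)
    (hs : checkChunks E iv8 R j d N nC C = true)
    (ht : checkTable E iv8 (N + chunk * nC) n j dn dk Rep Ref Tb = true) {m : Nat}
    (hm : Finite (genBy L S') ∧ Nat.card (genBy L S') ≤ m) :
    Finite (genBy L (List.range j)) ∧ Nat.card (genBy L (List.range j)) ≤ n * m := by
  simp only [List.all_eq_true, Bool.and_eq_true, decide_eq_true_eq, List.mem_range] at hp
  set L' := lv L (List.range j) with hL'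
  have hl' : L'.length = j := by simp [hL', lv]
  have hfl : ∀ x < j, fl L' x = fl L x := fun x hx => by
    rw [hL', fl_lv, List.getD_eq_getElem _ _ (by simpa using hx), List.getElem_range]
  have hi : ∀ x, fl L' (iv8 x) = (fl L' x)⁻¹ := fun x => by
    rcases lt_or_ge x j with hx | hx
    · obtain ⟨h1, h2⟩ := hp x hx
      rw [hfl x hx, hfl _ h2]
      have e := hrel _ (List.contains_iff_mem.1 h1)
      simp only [ev_cons, ev_nil, mul_one] at e
      exact (inv_eq_of_mul_eq_one_right e).symm
    · have h0 : fl L' x = 1 := fl_of_le L' (by rw [hl']; exact hx)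
      rw [h0, inv_one]
      refine fl_of_le L' (hl'.symm ▸ ?_)
      rcases lt_or_ge x 8 with hx8 | hx8
      · refine Nat.le_of_ble_eq_true (List.all_eq_true.1 hout x (List.mem_iff_getElem.2 ⟨x - j, ?_, ?_⟩))
        · simp; omega
        · simp only [List.getElem_drop, List.getElem_range]; omega
      · rw [iv8, List.getD_eq_default _ _ (by simpa using hx8)]
        exact hx
  have h := tableOK_of_check hi hR (hl'.symm ▸ hd) (hl'.symm ▸ hs) (hl'.symm ▸ ht)
    (level_rels hl hc hrel) (level_subs hl hc)
  have hc' := hc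
  simp only [checkLevel, Bool.and_eq_true, List.all_eq_true, List.contains_iff_mem] at hc'
  exact h.finite_card_le hn (genBy_mono fun l hl => hc'.1.2 l hl) hm.1 hm.2

theorem genBy_all {k : Nat} (hl : L.length = k) :
    genBy L (List.range k) = closure {x | x ∈ L} := by
  rw [genBy, ← hl, lv_range]

/-- Six elements satisfying the relators generate at most `40320` elements. -/
theorem card_six (hl : L.length = 6) (h : ∀ r ∈ rels6, ev L r = 1) :
    Finite (closure {x | x ∈ L}) ∧ Nat.card (closure {x | x ∈ L} : Subgroup G) ≤ 40320 := by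
  have h0 := level hl (by norm_num) (j := 4) (by norm_num) h (by decide +kernel) (by decide +kernel) (n := 384)
    (S' := []) (rs := T0.rels) (subs := T0.subs) (by norm_num) (by decide +kernel) T0.hR T0.hdefs T0.hsteps
    T0.htable card_genBy_nil
  have h1 := level hl (by norm_num) (j := 6) le_rfl h (by decide +kernel) (by decide +kernel) (n := 105)
    (S' := List.range 4) (rs := T1.rels) (subs := T1.subs) (by norm_num) (by decide +kernel) T1.hR T1.hdefs
    T1.hsteps T1.htable h0
  rw [genBy_all hl] at h1
  exact ⟨h1.1, h1.2.trans (by norm_num)⟩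

theorem fl_take {k : Nat} {x : Nat} (hx : x < k) : fl (L.take k) x = fl L x := by
  simp [fl, List.getD_eq_getElem?_getD, List.getElem?_take, hx]

theorem ev_take {k : Nat} {w : List Nat} (hw : ∀ x ∈ w, x < k) : ev (L.take k) w = ev L w := by
  induction w with
  | nil => simp
  | cons a w ih =>
    rw [ev_cons, ev_cons, fl_take (hw a (by simp)), ih fun x hx => hw x (by simp [hx])]

theorem genBy_take {k : Nat} {S : List Nat} (hS : ∀ x ∈ S, x < k) : genBy (L.take k) S = genBy L S := by
  have e : lv (L.take k) S = lv L S := List.map_congr_left fun x hx => fl_take (hS x hx)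
  rw [genBy, genBy, e]

/-- Eight elements satisfying all the relators generate at most as many elements as the third Conway
group has. -/
theorem card_le8 (h : Rels8 L) :
    Finite (closure {x | x ∈ L}) ∧ Nat.card (closure {x | x ∈ L} : Subgroup G) ≤ 495766656000 := by
  have hl7 : (L.take 7).length = 7 := by simp [h.len]
  have hl6 : (L.take 6).length = 6 := by simp [h.len]
  have h7 : McLUniq.Rels (L.take 7) := ⟨hl7, fun w hw => by
    have hlt : (McLUniq.rels.all fun w => rels8.contains w && w.all fun x => decide (x < 7)) = true := by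
      decide +kernel
    have := List.all_eq_true.1 hlt w hw
    simp only [Bool.and_eq_true, List.all_eq_true, List.contains_iff_mem, decide_eq_true_eq] at this
    rw [ev_take this.2]
    exact h.rel w this.1⟩
  have h6 : ∀ r ∈ rels6, ev (L.take 6) r = 1 := fun w hw => by
    have hlt : (rels6.all fun w => rels8.contains w && w.all fun x => decide (x < 6)) = true := by
      decide +kernel
    have := List.all_eq_true.1 hlt w hw
    simp only [Bool.and_eq_true, List.all_eq_true, List.contains_iff_mem, decide_eq_true_eq] at this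
    rw [ev_take this.2]
    exact h.rel w this.1
  obtain ⟨f6, c6⟩ := card_six hl6 h6
  have e6 : McLUniq.subH (L.take 7) = closure {x | x ∈ L.take 6} := by
    rw [← genBy_all hl6]
    show genBy (L.take 7) [0, 1, 2, 3, 4, 5] = genBy (L.take 6) (List.range 6)
    rw [genBy_take (by decide), genBy_take (by decide)]
    rfl
  obtain ⟨f7, c7⟩ := McLUniq.card_le h7 (e6 ▸ f6) (e6 ▸ c6)
  have e7 : genBy L (List.range 7) = closure {x | x ∈ L.take 7} := by
    rw [← genBy_all hl7, genBy_take (by decide)]
  have h8 := level h.len le_rfl (j := 8) le_rfl h.rel (by decide +kernel) (by decide +kernel) (n := 552)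
    (S' := List.range 7) (rs := T2.rels) (subs := T2.subs) (by norm_num) (by decide +kernel) T2.hR T2.hdefs
    T2.hsteps T2.htable ⟨e7 ▸ f7, e7 ▸ c7⟩
  rw [genBy_all h.len] at h8
  exact ⟨h8.1, h8.2.trans (by norm_num)⟩

theorem rels6_L0 : (rels6.all fun r => McLUniq.eqW r [] && r.all fun x => decide (x < 7)) = true := by
  decide +kernel

/-- The six permutations generate at least `40320` elements. -/
theorem le_card_subH : 40320 ≤ Nat.card (McLUniq.subH McLUniq.L0) := by
  have hle : McLUniq.subH McLUniq.L0 ≤ closure {x | x ∈ McLUniq.L0} := (closure_le _).2 fun x hx => by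
    obtain ⟨l, -, rfl⟩ := List.mem_map.1 hx
    exact mem_closure_fl l
  obtain ⟨-, hc⟩ := McLUniq.rels_L0.table.finite_card_le (by norm_num) (m := Nat.card (McLUniq.subH McLUniq.L0))
    hle inferInstance le_rfl
  have e : (closure {x | x ∈ McLUniq.L0} : Subgroup _) = McLRankThree.M := McLUniq.W0_eq_M
  rw [e, McLRankThree.card_M] at hc
  omega

/-- Six elements satisfying the relators are the image of the six permutations. -/
theorem exists_hom6 (hl : L.length = 6) (h : ∀ r ∈ rels6, ev L r = 1) :
    ∃ f : ↥(McLUniq.subH McLUniq.L0) →* G, ∀ l < 6, ∀ hm, f ⟨fl McLUniq.L0 l, hm⟩ = fl L l := by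
  set L0 := McLUniq.L0 with hL0
  let P : List (Equiv.Perm (Fin 275) × G) := (List.range 6).map fun l => (fl L0 l, fl L l)
  have hPl : P.length = 6 := by simp [P]
  have hflP : ∀ l < 6, fl P l = (fl L0 l, fl L l) := fun l hl => by
    rw [fl, List.getD_eq_getElem _ _ (hPl.symm ▸ hl)]
    simp [P]
  have hev : ∀ w : List Nat, (∀ x ∈ w, x < 6) → ev P w = (ev L0 w, ev L w) := by
    intro w hw
    induction w with
    | nil => rfl
    | cons a w ih =>
      rw [ev_cons, hflP a (hw a (by simp)), ih fun x hx => hw x (by simp [hx]), ev_cons, ev_cons]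
      rfl
  have hlt6 : (rels6.all fun r => r.all fun x => decide (x < 6)) = true := by decide +kernel
  have hP : ∀ r ∈ rels6, ev P r = 1 := fun r hr => by
    rw [hev r (fun x hx => by simpa using List.all_eq_true.1 (List.all_eq_true.1 hlt6 r hr) x hx), h r hr]
    have := List.all_eq_true.1 rels6_L0 r hr
    rw [Bool.and_eq_true] at this
    rw [McLUniq.ev_eq_of_eqW this.1, ev_nil]
    rfl
  obtain ⟨hf, hc⟩ := card_six hPl hP
  let D : Subgroup (Equiv.Perm (Fin 275) × G) := closure {x | x ∈ P}
  haveI : Finite D := hf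
  have hfst : D.map (MonoidHom.fst _ _) = McLUniq.subH L0 := by
    rw [MonoidHom.map_closure]
    refine congrArg Subgroup.closure (Set.ext fun x => ⟨?_, fun hx => ?_⟩)
    · rintro ⟨p, hp, rfl⟩
      obtain ⟨l, hl, rfl⟩ := List.mem_map.1 hp
      exact List.mem_map.2 ⟨l, hl, rfl⟩
    · obtain ⟨l, hl, rfl⟩ := List.mem_map.1 hx
      exact ⟨(fl L0 l, fl L l), List.mem_map.2 ⟨l, hl, rfl⟩, rfl⟩
  let p : D →* McLUniq.subH L0 := ((MonoidHom.fst _ _).comp D.subtype).codRestrict _ fun d => by
    rw [← hfst]; exact ⟨d.1, d.2, rfl⟩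
  have psur : Function.Surjective p := fun m => by
    obtain ⟨d, hd, e⟩ : (m : Equiv.Perm (Fin 275)) ∈ D.map (MonoidHom.fst _ _) := by rw [hfst]; exact m.2
    exact ⟨⟨d, hd⟩, Subtype.ext e⟩
  have pbij : Function.Bijective p := psur.bijective_of_nat_card_le (hc.trans le_card_subH)
  let e := MulEquiv.ofBijective p pbij
  refine ⟨((MonoidHom.snd _ _).comp D.subtype).comp e.symm.toMonoidHom, fun l hl hm => ?_⟩
  have hd : (fl L0 l, fl L l) ∈ D :=
    subset_closure (List.mem_map.2 ⟨l, List.mem_range.2 hl, rfl⟩)
  have : e.symm ⟨fl L0 l, hm⟩ = ⟨(fl L0 l, fl L l), hd⟩ := e.symm_apply_eq.2 rfl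
  show ((e.symm ⟨fl L0 l, hm⟩ : D) : Equiv.Perm (Fin 275) × G).2 = fl L l
  rw [this]

end CfsgLib.Co3U.Glob
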