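import Cfsg.Agent.Co3U.Glob.SetupChecks
import Cfsg.Agent.McLEmb.Local

/-!
# Evaluation of the eight letters in the matrix cover
-/

set_option autoImplicit false
set_option maxRecDepth 100000
set_option linter.style.haveILetI false

namespace CfsgLib.Co3U.Glob

open Subgroup CfsgLib.Coset CfsgLib.Co3U.Mat CfsgLib.Co3U.Data CfsgLib.Co3U.Check CfsgLib.Co3U.Facts

theorem ev_LM8_gw (w : List Nat) : ev LM8 w = gw (w.flatMap fun l => gamW.getD l []) := by
  induction w with
  | nil => rfl
  | cons l w ih =>
    rw [ev_cons, ih, List.flatMap_cons, gw, gw, List.map_append, List.prod_append]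
    congr 1
    rw [fl]
    rcases lt_or_ge l gamW.length with h | h
    · rw [List.getD_eq_getElem _ _ (by simpa [LM8] using h), List.getD_eq_getElem _ _ h]
      simp [LM8, gw]
    · rw [List.getD_eq_default _ _ (by simpa [LM8] using h), List.getD_eq_default _ _ h]
      rfl

theorem rep8 (w : List Nat) : Rep (el8 w) (ev LM8 w) := by
  rw [ev_LM8_gw]; exact rep_el _

theorem setup_facts : (∀ r ∈ rels6 ++ [[7, 7]] ++ relsC, ev LM8 r = 1) ∧ ev LM8 McLUniq.tW = -1 ∧
    ev LM8 McLUniq.sW = gS ∧ ∀ i < 6, ev LM8 (gensW.getD i []) = gw [i] := by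
  have h := setup_ok
  simp only [setupOK, Bool.and_eq_true, List.all_eq_true, List.mem_range] at h
  obtain ⟨⟨⟨h1, h2⟩, h3⟩, h4⟩ := h
  refine ⟨fun r hr => eq_of_eqS (rep8 r) rep_one (h1 r hr), eq_of_eqS (rep8 _) rep_neg1 h2,
    eq_of_eqS (rep8 _) rS h3, fun i hi => ?_⟩
  have e := eq_of_eqS (rep8 _) (rep_letter i) (h4 i hi)
  rw [e]
  simp [gw]

/-- The relators hold in the matrix cover. -/
theorem ev_rels {r : List Nat} (hr : r ∈ rels6 ++ [[7, 7]] ++ relsC) : ev LM8 r = 1 :=
  setup_facts.1 r hr

theorem ev_tW : ev LM8 McLUniq.tW = -1 := setup_facts.2.1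

theorem ev_sW : ev LM8 McLUniq.sW = gS := setup_facts.2.2.1

/-- The generators of the cover as words in the letters. -/
theorem gensW_ok {i : Nat} (hi : i < 6) : ev LM8 (gensW.getD i []) = gw [i] := setup_facts.2.2.2 i hi

theorem fl_iv8 (l : Nat) : fl LM8 (iv8 l) = (fl LM8 l)⁻¹ := by
  have hp : ∀ a b, [a, b] ∈ rels6 ++ [[7, 7]] ++ relsC → fl LM8 b = (fl LM8 a)⁻¹ := fun a b h => by
    have e := ev_rels h
    simp only [ev_cons, ev_nil, mul_one] at e
    exact (inv_eq_of_mul_eq_one_right e).symm
  rcases lt_or_ge l 8 with hl | hl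
  · interval_cases l
    · exact hp 0 1 (by simp [rels6])
    · exact hp 1 0 (by simp [rels6])
    · exact hp 2 3 (by simp [rels6])
    · exact hp 3 2 (by simp [rels6])
    · exact hp 4 4 (by simp [rels6])
    · exact hp 5 5 (by simp [rels6])
    · rw [show iv8 6 = 6 from rfl, show fl LM8 6 = 1 from rfl, inv_one]
    · exact hp 7 7 (by simp)
  · rw [iv8, List.getD_eq_default _ _ (by simpa using hl), fl_of_le LM8 (by rw [LM8_len]; exact hl), inv_one]

theorem ev_inv8 (w : List Nat) : ev LM8 (inv8 w) = (ev LM8 w)⁻¹ := by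
  induction w with
  | nil => simp [inv8]
  | cons l w ih =>
    rw [inv8, List.map_cons, List.reverse_cons, ev_append, ← inv8, ih, ev_cons, ev_cons, ev_nil, mul_one,
      fl_iv8, mul_inv_rev]

/-- Translation of words in the twelve letters. -/
theorem ev_sub8 {w : List Nat} (hw : ∀ l ∈ w, l < 12) : ev LM8 (sub8 w) = gw w := by
  induction w with
  | nil => rfl
  | cons l w ih =>
    have hl := hw l List.mem_cons_self
    rw [sub8, List.flatMap_cons, ev_append, ← sub8, ih fun k hk => hw k (List.mem_cons_of_mem _ hk), gw, gw,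
      List.map_cons, List.prod_cons]
    congr 1
    split_ifs with h6
    · rw [gensW_ok h6]; simp [gw]
    · rw [ev_inv8, gensW_ok (show l - 6 < 6 by omega)]
      simp only [gw, List.map_cons, List.map_nil, List.prod_cons, List.prod_nil, mul_one]
      rw [letter, letter, if_neg h6, if_pos (show l - 6 < 6 by omega)]

theorem nodupN_inj : ∀ {K : List Nat}, nodupN K = true → ∀ {i j : Nat}, i < K.length → j < K.length →
    K.getD i 0 = K.getD j 0 → i = j
  | [], _, i, _, hi, _, _ => absurd hi (Nat.not_lt_zero i)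
  | a :: K, h, i, j, hi, hj, e => by
    rw [nodupN, Bool.and_eq_true, Bool.not_eq_true', ← Bool.not_eq_true, List.any_eq_true] at h
    have hmem : ∀ k, k < K.length → a ≠ K.getD k 0 := fun k hk hh => h.1 ⟨_, List.getElem_mem hk, by
      rw [← List.getD_eq_getElem _ 0 hk, ← hh]; simp⟩
    cases i with
    | zero =>
      cases j with
      | zero => rfl
      | succ j => exact absurd e (hmem j (by simpa using hj))
    | succ i =>
      cases j with
      | zero => exact absurd e.symm (hmem i (by simpa using hi))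
      | succ j =>
        rw [List.getD_cons_succ, List.getD_cons_succ] at e
        rw [nodupN_inj h.2 (by simpa using hi) (by simpa using hj) e]

end CfsgLib.Co3U.Glob
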