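import Cfsg.Agent.Co3U.Glob.CentData
import Cfsg.Agent.Co3U.Glob.SetupEv
import Cfsg.Agent.McLUniq.ClTests

/-!
# Checks on the centralizer of the second involution in the matrix cover
-/

set_option autoImplicit false
set_option maxRecDepth 100000
set_option Elab.async false

namespace CfsgLib.Co3U.Glob

open CfsgLib.Co3U.Mat CfsgLib.Co3U.Check

/-- The key of a word. -/
def key8 (w : List Nat) : Nat := key (el8 w)

/-- A basis word of a class. -/
def bW8 (c : McLUniq.Cl) (i : Nat) : List Nat := c.basis.getD i []

/-- Keys of the conjugates of a word. -/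
def conjK (R : List (List Nat)) (u : List Nat) : List Nat := R.map fun r => key8 (r ++ u ++ inv8 r)

/-- The centralizer of the second involution is `R * S * E` without repetition. -/
def transOK (c : McLUniq.Cl) (R S : List (List Nat)) : Bool :=
  eqS (el8 (c.eW 2)) sS && R.getD 0 [1] == [] && S.getD 0 [1] == [] &&
  Nat.beq (R.length * S.length * 16) 4608 &&
  R.all (fun r => commS (el8 r) sS) && S.all (fun r => commS (el8 r) sS && commS (el8 r) (el8 (bW8 c 2))) &&
  eqS (el8 (c.eW 4)) (el8 (bW8 c 2)) && eqS (el8 (c.eW 8)) (el8 (bW8 c 3)) &&
  ((List.range 16).all fun v => commS (el8 (c.eW v)) sS && commS (el8 (c.eW v)) (el8 (bW8 c 2)) &&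
    commS (el8 (c.eW v)) (el8 (bW8 c 3))) &&
  nodupN (conjK R (bW8 c 2)) && nodupN (conjK S (bW8 c 3)) && nodupN ((List.range 16).map fun v => key8 (c.eW v))

/-- The image of the `i`-th target under the inverse of two representatives. -/
def backK (r s : List Nat) (i : Nat) : Nat :=
  key (mul (mul (el8 (inv8 s)) (mul (mul (el8 (inv8 r)) (el8 (McLUniq.dImg.getD i []))) (el8 r))) (el8 s))

/-- The image of the `i`-th target under an element of the class. -/
def fwdK (v i : Nat) : Nat :=
  key8 (McLUniq.one.eW v ++ McLUniq.dImg.getD i [] ++ inv8 (McLUniq.one.eW v))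

/-- The four elements. -/
def fourS : List St := [one, neg1, sS, mul neg1 sS]

/-- Only four elements centralize the targets. -/
def centOK : Bool :=
  Nat.beq McLUniq.dImg.length 3 &&
  repsR1.all fun r => repsS1.all fun s => (List.range 16).all fun v =>
    !(Nat.beq (backK r s 0) (fwdK v 0) && Nat.beq (backK r s 1) (fwdK v 1) && Nat.beq (backK r s 2) (fwdK v 2)) ||
      fourS.any fun F => eqS (mul (mul (el8 r) (el8 s)) (el8 (McLUniq.one.eW v))) F

/-- The conjugates of the second involution commuting with it with the whole coset of the four group in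
the class. -/
def pureL : List Nat :=
  bstS.toList.filter fun k => commS (unkey k) sS && !(fourS.any fun F => eqS (unkey k) F) &&
    fourS.all fun F => bstS.has (key (mul (unkey k) F))

/-- Each pure pair is moved into the class. -/
def moveOK (c : McLUniq.Cl) (ks : List (List Nat)) : Bool :=
  ks.all (fun w => commS (el8 w) sS) &&
  pureL.all fun a => pureL.all fun b =>
    !commS (unkey a) (unkey b) || fourS.any (fun F => eqS (mul (unkey a) F) (unkey b)) ||
      !pureL.any (Nat.beq (key (mul (unkey a) (unkey b)))) ||
      ks.any fun w =>
        ((List.range 16).any fun v => eqS (mul (mul (el8 w) (unkey a)) (el8 (inv8 w))) (el8 (c.eW v))) &&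
          (List.range 16).any fun v => eqS (mul (mul (el8 w) (unkey b)) (el8 (inv8 w))) (el8 (c.eW v))

theorem trans_one : transOK McLUniq.one repsR1 repsS1 = true := by decide +kernel

theorem trans_two : transOK McLUniq.two repsR2 repsS2 = true := by decide +kernel

theorem cent_ok : centOK = true := by decide +kernel

theorem move_one : moveOK McLUniq.one moveP1 = true := by decide +kernel

theorem move_two : moveOK McLUniq.two moveP2 = true := by decide +kernel

end CfsgLib.Co3U.Glob
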