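/-!
# Representatives in the centralizer of the second involution in the matrix cover
-/

set_option autoImplicit false

namespace CfsgLib.Co3U.Glob

/-- Conjugators for the third vector of the first class. -/
def repsR1 : List (List Nat) := [
  [],
  [2],
  [7],
  [1, 2, 0],
  [5, 1, 7, 0, 5],
  [3],
  [1, 3, 0],
  [1, 1, 2],
  [4, 7, 0, 0, 4, 2],
  [5, 1, 7, 0, 5, 2],
  [5, 1, 7, 0, 5, 7],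
  [3, 7],
  [2, 1, 2, 0],
  [5, 1, 7, 0, 5, 1, 2, 0],
  [3, 1, 2, 0],
  [2, 5, 1, 7, 0, 5],
  [1, 1, 5, 1, 7, 0, 5],
  [1, 2, 0, 5, 1, 7, 0, 5],
  [4, 7, 0, 0, 4, 5, 1, 7, 0, 5],
  [3, 5, 1, 7, 0, 5],
  [1, 3, 0, 5, 1, 7, 0, 5],
  [4, 1, 1, 7, 4, 5, 1, 7, 0, 5],
  [5, 1, 7, 0, 5, 1, 3, 0],
  [3, 1, 1, 2],
  [5, 1, 7, 0, 5, 4, 7, 0, 0, 4, 2],
  [4, 7, 0, 0, 4, 5, 1, 7, 0, 5, 2],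
  [1, 3, 0, 5, 1, 7, 0, 5, 2],
  [4, 1, 1, 7, 4, 5, 1, 7, 0, 5, 2],
  [4, 7, 0, 0, 4, 5, 1, 7, 0, 5, 7],
  [4, 1, 1, 7, 4, 5, 1, 7, 0, 5, 7],
  [4, 7, 0, 0, 4, 5, 1, 7, 0, 5, 1, 2, 0],
  [4, 1, 1, 7, 4, 5, 1, 7, 0, 5, 1, 2, 0],
  [4, 7, 0, 0, 4, 2, 5, 1, 7, 0, 5],
  [4, 1, 1, 7, 4, 2, 5, 1, 7, 0, 5],
  [4, 7, 0, 0, 4, 1, 2, 0, 5, 1, 7, 0, 5],
  [4, 1, 1, 7, 4, 1, 2, 0, 5, 1, 7, 0, 5]]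

/-- Conjugators for the last vector of the first class. -/
def repsS1 : List (List Nat) := [
  [],
  [7, 1, 1],
  [3, 7, 2],
  [4, 7, 0, 0, 4],
  [7, 4, 7, 0, 0, 4, 7],
  [3, 0, 0, 4, 7, 0, 0, 4, 3],
  [3, 4, 1, 1, 7, 4, 7, 1, 2, 0],
  [5, 1, 7, 0, 5, 7, 5, 1, 7, 0, 5]]

/-- Conjugators for the third vector of the second class. -/
def repsR2 : List (List Nat) := [
  [],
  [2],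
  [7],
  [1, 2, 0],
  [4, 7, 0, 0, 4],
  [5, 1, 7, 0, 5],
  [1, 3, 0],
  [4, 1, 1, 7, 4],
  [7, 2],
  [1, 2, 0, 2],
  [4, 7, 0, 0, 4, 2],
  [1, 3, 0, 2],
  [4, 1, 1, 7, 4, 2],
  [4, 7, 0, 0, 4, 7],
  [1, 3, 0, 7],
  [4, 1, 1, 7, 4, 7],
  [4, 7, 0, 0, 4, 1, 2, 0],
  [4, 1, 1, 7, 4, 1, 2, 0],
  [5, 1, 7, 0, 5, 4, 7, 0, 0, 4],
  [3, 4, 7, 0, 0, 4],
  [2, 1, 3, 0],
  [4, 1, 1, 7, 4, 1, 3, 0],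
  [2, 4, 1, 1, 7, 4],
  [5, 1, 7, 0, 5, 4, 1, 1, 7, 4],
  [1, 2, 0, 7, 2],
  [5, 1, 7, 0, 5, 4, 7, 0, 0, 4, 2],
  [4, 7, 0, 0, 4, 1, 3, 0, 2],
  [5, 1, 7, 0, 5, 4, 1, 1, 7, 4, 2],
  [5, 1, 7, 0, 5, 4, 7, 0, 0, 4, 7],
  [5, 1, 7, 0, 5, 4, 1, 1, 7, 4, 7],
  [5, 1, 7, 0, 5, 4, 7, 0, 0, 4, 1, 2, 0],
  [5, 1, 7, 0, 5, 4, 1, 1, 7, 4, 1, 2, 0],
  [1, 2, 0, 5, 1, 7, 0, 5, 4, 7, 0, 0, 4],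
  [3, 5, 1, 7, 0, 5, 4, 7, 0, 0, 4],
  [5, 1, 7, 0, 5, 3, 4, 7, 0, 0, 4],
  [5, 1, 7, 0, 5, 4, 1, 1, 7, 4, 1, 3, 0]]

/-- Conjugators for the last vector of the second class. -/
def repsS2 : List (List Nat) := [
  [],
  [3, 7, 2, 7],
  [1, 3, 0, 3, 7],
  [5, 1, 7, 0, 5, 3],
  [3, 7, 3, 1, 2, 0],
  [5, 1, 7, 0, 5, 1, 2, 0, 7],
  [1, 3, 0, 5, 1, 7, 0, 5, 7],
  [3, 7, 5, 1, 7, 0, 5, 7, 2]]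

/-- Elements moving the pure groups to the first class. -/
def moveP1 : List (List Nat) := [
  [],
  [5, 1, 7, 0, 5],
  [5, 1, 7, 0, 5, 4, 7, 0, 0, 4]]

/-- Elements moving the pure groups to the second class. -/
def moveP2 : List (List Nat) := [
  [],
  [4, 7, 0, 0, 4],
  [4, 7, 0, 0, 4, 5, 1, 7, 0, 5]]

end CfsgLib.Co3U.Glob
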