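import Cfsg.Agent.Co3U.Glob.Move

/-!
# Eight letters satisfying the relators, from the facts of the matrix cover
-/

set_option autoImplicit false
set_option maxRecDepth 100000
set_option linter.unusedSectionVars false

namespace CfsgLib.Co3U.Glob

open Subgroup CfsgLib.Coset CfsgLib.McLEmb CfsgLib.Co3U.Facts
open CfsgLib.McLUniq (one two apM W6 ClOK oneOK twoOK)

attribute [local irreducible] CfsgLib.Co3U.Facts.gS

/-- The group of a class is its own centralizer in the cover. -/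
def CEHyp (c : McLUniq.Cl) : Prop :=
  ∀ g ∈ Gam, (∀ v < 16, Commute g (ev LM8 (c.eW v))) → ∃ v < 16, g = ev LM8 (c.eW v)

/-- Every regular action fixing the first two vectors is realised in the cover. -/
def RealHyp (c : McLUniq.Cl) : Prop :=
  ∀ M < 65536, apM M 1 = 1 → apM M 2 = 2 → (∀ v < 16, apM M v = 0 → v = 0) →
    ∃ k ∈ Gam, ∀ v < 16, k * ev LM8 (c.eW v) * k⁻¹ = ev LM8 (c.eW (apM M v))

/-- Only the four elements centralize the second involution and the images of the conjugation. -/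
def CentHyp : Prop :=
  ∀ g ∈ Gam, Commute g gS →
    (∀ i < McLUniq.dImg.length, Commute g (ev LM8 (McLUniq.dImg.getD i []))) →
    g = 1 ∨ g = -1 ∨ g = gS ∨ g = -gS

/-- Each relator is of one of four kinds. -/
def kindsOK : Bool :=
  (rels8.all fun r => ((rels6 ++ [[7, 7]] ++ relsC).contains r && r.all fun l => decide (l ≠ 6)) ||
      ((McLUniq.relsM ++ McLUniq.relsN).contains r && r.all fun l => decide (l < 7)) ||
      decide (r = [6, 6]) || decide (r = [6, 7, 6] ++ inv8 awW)) &&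
    (inv8 awW).all (fun l => decide (l ≠ 6)) &&
    (List.range 12).all fun l => (sub8 [l]).all fun m => decide (m ≠ 6)

theorem kinds_ok : kindsOK = true := by decide +kernel

variable {G : Type*} [Group G] {t : G} {ψ : Gam →* G} {Φ : Emb t} {x : G}

theorem fl_big_ne {w : G} {l : Nat} (hl : l ≠ 6) : fl (Φ.LG ++ [w, x]) l = fl (Φ.LG ++ [1, x]) l := by
  rcases lt_or_ge l 6 with h | h
  · rw [fl, fl, List.getD_append _ _ _ _ (by rw [Φ.LG_len]; exact h),
      List.getD_append _ _ _ _ (by rw [Φ.LG_len]; exact h)]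
  · rw [fl, fl, List.getD_append_right _ _ _ _ (by rw [Φ.LG_len]; exact h),
      List.getD_append_right _ _ _ _ (by rw [Φ.LG_len]; exact h), Φ.LG_len]
    obtain ⟨n, rfl⟩ : ∃ n, l = 7 + n := ⟨l - 7, by omega⟩
    rw [show 7 + n - 6 = n + 1 by omega, List.getD_cons_succ, List.getD_cons_succ]

theorem ev_big_ne {w : G} {r : List Nat} (hr : ∀ l ∈ r, l ≠ 6) :
    ev (Φ.LG ++ [w, x]) r = ev (Φ.LG ++ [1, x]) r := by
  induction r with
  | nil => rw [ev_nil, ev_nil]
  | cons l r ih =>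
    rw [ev_cons, ev_cons, fl_big_ne (hr l List.mem_cons_self), ih fun k hk => hr k (List.mem_cons_of_mem _ hk)]

theorem fl_big_six {w : G} : fl (Φ.LG ++ [w, x]) 6 = w := by
  rw [fl, List.getD_append_right _ _ _ _ (by rw [Φ.LG_len]), Φ.LG_len]
  rfl

theorem fl_big_seven {w : G} : fl (Φ.LG ++ [w, x]) 7 = x := by
  rw [fl, List.getD_append_right _ _ _ _ (by rw [Φ.LG_len]; norm_num), Φ.LG_len]
  rfl

theorem ev_big_lt {w : G} {r : List Nat} (hr : ∀ l ∈ r, l < 7) :
    ev (Φ.LG ++ [w, x]) r = ev (Φ.LG ++ [w]) r := by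
  induction r with
  | nil => rw [ev_nil, ev_nil]
  | cons l r ih =>
    rw [ev_cons, ev_cons, ih fun k hk => hr k (List.mem_cons_of_mem _ hk)]
    congr 1
    have hl := hr l List.mem_cons_self
    rw [fl, fl]
    rcases lt_or_ge l 6 with h | h
    · rw [List.getD_append _ _ _ _ (by rw [Φ.LG_len]; exact h), List.getD_append _ _ _ _ (by rw [Φ.LG_len]; exact h)]
    · obtain rfl : l = 6 := by omega
      rw [List.getD_append_right _ _ _ _ (by rw [Φ.LG_len]), List.getD_append_right _ _ _ _ (by rw [Φ.LG_len]),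
        Φ.LG_len]
      rfl

/-- The conditions on a class, moved to the group. -/
theorem big_of (hx : IsMap ψ Φ x) (hrange : ∀ g, g ∈ centralizer ({t} : Set G) ↔ g ∈ ψ.range)
    (hinj : Function.Injective ψ) {c : McLUniq.Cl} (hc : ClOK c) (hcE : CEHyp c) (hR : RealHyp c) :
    Emb.Big Φ c := by
  refine ⟨fun g hg => ?_, fun M hM h1 h2 h0 => ?_⟩
  · have hgt : g ∈ centralizer ({t} : Set G) := by
      have h := hg 1 (by norm_num)
      rw [Φ.e_one hc] at h
      exact mem_cen.2 h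
    obtain ⟨γ, rfl⟩ := (hrange g).1 hgt
    obtain ⟨v, hv, e⟩ := hcE γ γ.2 fun v hv => by
      have h := hg v hv
      rw [e_eq_wpsi hx hc, wpsi, ← map_mul, ← map_mul] at h
      exact congrArg Subtype.val (hinj h)
    refine ⟨v, hv, ?_⟩
    rw [e_eq_wpsi hx hc, wpsi]
    exact congrArg ψ (Subtype.ext e)
  · obtain ⟨k, hk, hke⟩ := hR M hM h1 h2 h0
    refine ⟨ψ ⟨k, hk⟩, mem_cen.1 ((hrange _).2 ⟨_, rfl⟩), fun v hv => ?_⟩
    rw [e_eq_wpsi hx hc, e_eq_wpsi hx hc, wpsi, wpsi, ← map_inv, ← map_mul, ← map_mul]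
    exact congrArg ψ (Subtype.ext (hke v hv))

/-- **The letters**, given the facts on the cover. -/
theorem exists_letters_of [Finite G] (hO : Cfsg.oddCore G = ⊥) (hZ : Subgroup.center G = ⊥)
    (hx : IsMap ψ Φ x) (hgen : centralizer ({t} : Set G) ≤ closure ({y | y ∈ Φ.LG} ∪ {x}))
    (hinj : Function.Injective ψ) (hrange : ∀ g, g ∈ centralizer ({t} : Set G) ↔ g ∈ ψ.range)
    (ht : ψ ⟨-1, neg_one_mem⟩ = t) {c y w : G} (L : Loc t (ψ LocalModel.mS) c y w)
    (cE1 : CEHyp one) (cE2 : CEHyp two) (re1 : RealHyp one) (re2 : RealHyp two) (hCI : CentHyp)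
    (pu1 : PureHyp one) (pu2 : PureHyp two) :
    ∃ L8 : List G, Rels8 L8 ∧ centralizer ({t} : Set G) ≤ closure {z | z ∈ L8} ∧
      (∃ g ∈ closure {z | z ∈ L8}, g * t * g⁻¹ = ψ LocalModel.mS) ∧
      ∀ u : List Nat, (∀ l ∈ u, l < 12) → ev L8 (sub8 u) = ψ ⟨Facts.gw u, Facts.gw_mem u⟩ := by
  have hs := s_eq_psi hx
  -- a swap of the two involutions
  obtain ⟨g, hg⟩ := L.exists_fused hO hZ
  have hu : g⁻¹ * t * g ∈ centralizer ({t} : Set G) := mem_cen.2 (by
    have h := commute_conj g⁻¹ L.comm_s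
    rw [← hg, inv_inv, show g⁻¹ * (g * t * g⁻¹) * g = t by group] at h
    exact h)
  have hts : IsConj t (g⁻¹ * t * g) := isConj_iff.2 ⟨g⁻¹, by group⟩
  have hne : g⁻¹ * t * g ≠ t := fun e => by
    have hgt : g * t * g⁻¹ = t := by
      conv_lhs => rw [← e]
      group
    have hst : ψ LocalModel.mS = t := hg.symm.trans hgt
    have h1 : Φ.e one 2 = Φ.e one 1 := by rw [Φ.e_two oneOK, Φ.e_one oneOK, hs, hst]
    have := Φ.e_inj oneOK (by norm_num) (by norm_num) h1
    omega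
  obtain ⟨h, hh, hhe⟩ : ConjIn t (ψ LocalModel.mS) (g⁻¹ * t * g) := by
    rcases L.classes _ hu (by rw [← inv_inv g, inv_inv g⁻¹, orderOf_conj g⁻¹ t, L.ord_t]) with e | e | e
    exacts [absurd e hne, e, absurd hts (L.not_conj_of_c e)]
  have hht : h * t * h⁻¹ = t := mul_inv_eq_iff_eq_mul.2 (mem_cen.1 hh)
  have hgt : g * h * t * (g * h)⁻¹ = Φ.s := by
    rw [hs, ← hg, show g * h * t * (g * h)⁻¹ = g * (h * t * h⁻¹) * g⁻¹ by group, hht]
  have hgs : g * h * Φ.s * (g * h)⁻¹ = t := by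
    rw [hs, show g * h * ψ LocalModel.mS * (g * h)⁻¹ = g * (h * ψ LocalModel.mS * h⁻¹) * g⁻¹ by group, hhe]
    group
  obtain ⟨a, ha, hat, has⟩ := exists_mover hx hinj hrange ht L oneOK pure_one pu1 hgt hgs
  obtain ⟨b, hb, hbt, hbs⟩ := exists_mover hx hinj hrange ht L twoOK pure_two pu2 hgt hgs
  -- the last letter
  obtain ⟨w', hr, hw, hwt, -, hwm, hwd⟩ := Φ.exists_both (big_of hx hrange hinj oneOK cE1 re1)
    (big_of hx hrange hinj twoOK cE2 re2) (fun z hzt hzs hzd => by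
      obtain ⟨γ, rfl⟩ := (hrange z).1 (mem_cen.2 hzt)
      have hγs : Commute (γ : M8) gS := by
        rw [hs] at hzs
        rw [← mS_coe]
        exact congrArg Subtype.val (hinj (show ψ (γ * LocalModel.mS) = ψ (LocalModel.mS * γ) by
          rw [map_mul, map_mul]; exact hzs))
      have hd3 : McLUniq.dImg.length = 3 := rfl
      rcases hCI γ γ.2 hγs (fun i hi => by
        have h := hzd i hi
        rw [F_eq_wpsi hx (words_ok.1 i (by omega)).2, wpsi] at h
        exact congrArg Subtype.val (hinj (show ψ (γ * ⟨ev LM8 (McLUniq.dImg.getD i []), ev_LM8_mem _⟩) =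
          ψ (⟨ev LM8 (McLUniq.dImg.getD i []), ev_LM8_mem _⟩ * γ) by rw [map_mul, map_mul]; exact h)))
        with e | e | e | e
      · exact Or.inl (by rw [show γ = 1 from Subtype.ext e, map_one])
      · exact Or.inr (Or.inl (by rw [show γ = ⟨-1, neg_one_mem⟩ from Subtype.ext e, ht]))
      · exact Or.inr (Or.inr (Or.inl (by rw [show γ = LocalModel.mS from Subtype.ext (e.trans mS_coe.symm), hs])))
      · refine Or.inr (Or.inr (Or.inr ?_))
        rw [show γ = ⟨-1, neg_one_mem⟩ * LocalModel.mS from Subtype.ext (by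
          rw [e, Subgroup.coe_mul, mS_coe, neg_mul, one_mul]), map_mul, ht, hs])
    ha hat has hb hbt hbs
  set L8 := Φ.LG ++ [w', x] with hL8
  have hk := kinds_ok
  simp only [kindsOK, Bool.and_eq_true, List.all_eq_true, Bool.or_eq_true, decide_eq_true_eq,
    List.contains_iff_mem, List.mem_range] at hk
  obtain ⟨⟨hkind, hinv⟩, hsub⟩ := hk
  have hlow : ∀ u : List Nat, (∀ l ∈ u, l ≠ 6) → ev L8 u = wpsi ψ u := fun u hu => by
    rw [hL8, ev_big_ne hu, hx u hu]
  have hmem : ∀ z ∈ L8, z ∈ closure {z | z ∈ L8} := fun z hz => subset_closure hz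
  refine ⟨L8, ⟨by simp [hL8, Φ.LG_len], fun r hr8 => ?_⟩, fun z hz => ?_, ⟨w', hmem _ (by simp [hL8]), ?_⟩,
    fun u hu => ?_⟩
  · rcases hkind r hr8 with ((⟨h1, h2⟩ | ⟨h1, h2⟩) | rfl) | rfl
    · rw [hlow r h2, ← wpsi_nil ψ]
      exact wpsi_eq ψ ((ev_rels h1).trans (ev_nil LM8).symm)
    · rw [hL8, ev_big_lt h2]
      exact hr r h1
    · rw [ev_cons, ev_cons, ev_nil, mul_one, hL8, fl_big_six, hw]
    · rw [ev_append, hlow _ hinv, wpsi_inv8, ev_cons, ev_cons, ev_cons, ev_nil, mul_one, hL8, fl_big_six,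
        fl_big_seven, ← mul_assoc, conj_x hx hinj (big_of hx hrange hinj oneOK cE1 re1).cE hw hwm hwd,
        mul_inv_cancel]
  · refine closure_mono ?_ (hgen hz)
    rintro z (hz | rfl)
    · exact List.mem_append_left _ hz
    · simp [hL8]
  · rw [hwt, hs]
  · rw [hlow _ fun l hl => ?_, wpsi]
    · exact congrArg ψ (Subtype.ext (ev_sub8 hu))
    · obtain ⟨m, hm, hlm⟩ := List.mem_flatMap.1 hl
      exact hsub m (hu m hm) l (List.mem_flatMap.2 ⟨m, List.mem_singleton_self m, hlm⟩)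

end CfsgLib.Co3U.Glob
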