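import Cfsg.Agent.Co3U.Glob.CentChecks
import Cfsg.Agent.Co3U.Glob.LettersOf

/-!
# The facts on the centralizer of the second involution in the matrix cover
-/

set_option autoImplicit false
set_option maxRecDepth 100000
set_option linter.style.haveILetI false

namespace CfsgLib.Co3U.Glob

open Subgroup CfsgLib.Coset CfsgLib.Co3U.Mat CfsgLib.Co3U.Check CfsgLib.Co3U.Facts
open CfsgLib.McLUniq (one two)

attribute [local irreducible] el8 key LM8 gamW bstS gS

/-- The centralizer of the second involution has at most 4608 elements. -/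
theorem card_cen_le : Nat.card (Gam ⊓ centralizer ({gS} : Set M8) : Subgroup M8) ≤ 4608 := by
  classical
  have hcls := card_class_s.1
  have hup : Nat.card (Gam ⊓ centralizer ({gS} : Set M8) : Subgroup M8) * Nat.card {x // CG gS x} ≤ 2903040 := by
    rw [← card_Gam, ← Nat.card_prod]
    choose f hf hfe using fun x : {x // CG gS x} => x.2
    refine Nat.card_le_card_of_injective (fun p => (⟨f p.2 * p.1.1, mul_mem (hf p.2) p.1.2.1⟩ : Gam)) ?_
    rintro ⟨⟨k, hk⟩, x⟩ ⟨⟨k', hk'⟩, x'⟩ h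
    have h' : f x * k = f x' * k' := congrArg Subtype.val h
    have key' : ∀ (x : {x // CG gS x}) (k : M8), Commute k gS → f x * k * gS * (f x * k)⁻¹ = x.1 :=
      fun x k hk => by
        rw [show f x * k * gS * (f x * k)⁻¹ = f x * (k * gS * k⁻¹) * (f x)⁻¹ by group, hk.eq,
          mul_inv_cancel_right, hfe]
    have hx : x = x' := Subtype.ext (by
      rw [← key' x k (mem_centralizer_singleton_iff.1 hk.2), ← key' x' k' (mem_centralizer_singleton_iff.1 hk'.2), h'])
    subst hx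
    obtain rfl := mul_left_cancel h'
    rfl
  rw [hcls] at hup
  omega

theorem key8_eq {u v : List Nat} {g : M8} (hu : Rep (el8 u) g) (hv : Rep (el8 v) g) : key8 u = key8 v :=
  congrArg key (hu.unique hv)

theorem commute_of_el8 {u v : List Nat} (h : commS (el8 u) (el8 v) = true) :
    Commute (ev LM8 u) (ev LM8 v) := (commS_iff (rep8 u) (rep8 v)).1 h

theorem commute_gS_of_el8 {u : List Nat} (h : commS (el8 u) sS = true) : Commute (ev LM8 u) gS :=
  (commS_iff (rep8 u) rS).1 h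

theorem conjK_getD (R : List (List Nat)) (u : List Nat) {i : Nat} (hi : i < R.length) :
    (conjK R u).getD i 0 = key8 (R.getD i [] ++ u ++ inv8 (R.getD i [])) := by
  simp [conjK, List.getD_eq_getElem?_getD, List.getElem?_eq_getElem hi]

theorem rep_conj8 (r u : List Nat) :
    Rep (el8 (r ++ u ++ inv8 r)) (ev LM8 r * ev LM8 u * (ev LM8 r)⁻¹) := by
  have := rep8 (r ++ u ++ inv8 r)
  rwa [ev_append, ev_append, ev_inv8] at this

/-- The facts of a transversal check. -/
theorem trans_facts {c : McLUniq.Cl} {R S : List (List Nat)} (h : transOK c R S = true) :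
    ev LM8 (c.eW 2) = gS ∧ R.getD 0 [1] = [] ∧ S.getD 0 [1] = [] ∧
    ∀ g ∈ Gam, Commute g gS → ∃ r ∈ R, ∃ s ∈ S, ∃ v < 16,
      g = ev LM8 r * ev LM8 s * ev LM8 (c.eW v) ∧
        ((∀ w < 16, Commute g (ev LM8 (c.eW w))) → r = [] ∧ s = []) := by
  classical
  simp only [transOK, Bool.and_eq_true, List.all_eq_true, List.mem_range, Nat.beq_eq, beq_iff_eq] at h
  obtain ⟨⟨⟨⟨⟨⟨⟨⟨⟨⟨⟨h2, hR0⟩, hS0⟩, hlen⟩, hRc⟩, hSc⟩, h4⟩, h8⟩, hEc⟩, hRn⟩, hSn⟩, hEn⟩ := h
  have e2 : ev LM8 (c.eW 2) = gS := eq_of_eqS (rep8 _) rS h2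
  have e4 : ev LM8 (c.eW 4) = ev LM8 (bW8 c 2) := eq_of_eqS (rep8 _) (rep8 _) h4
  have e8 : ev LM8 (c.eW 8) = ev LM8 (bW8 c 3) := eq_of_eqS (rep8 _) (rep8 _) h8
  refine ⟨e2, hR0, hS0, ?_⟩
  set b2 := ev LM8 (bW8 c 2)
  set b3 := ev LM8 (bW8 c 3)
  have hRm : ∀ a : Fin R.length, R.getD a.val [] ∈ R := fun a => by
    rw [List.getD_eq_getElem _ _ a.2]; exact List.getElem_mem _
  have hSm : ∀ j : Fin S.length, S.getD j.val [] ∈ S := fun j => by
    rw [List.getD_eq_getElem _ _ j.2]; exact List.getElem_mem _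
  let r : Fin R.length → M8 := fun a => ev LM8 (R.getD a.val [])
  let s : Fin S.length → M8 := fun j => ev LM8 (S.getD j.val [])
  let e : Fin 16 → M8 := fun v => ev LM8 (c.eW v.val)
  have hrS : ∀ a, Commute (r a) gS := fun a => commute_gS_of_el8 (hRc _ (hRm a))
  have hsS : ∀ j, Commute (s j) gS := fun j => commute_gS_of_el8 (hSc _ (hSm j)).1
  have hs2 : ∀ j, Commute (s j) b2 := fun j => commute_of_el8 (hSc _ (hSm j)).2
  have heS : ∀ v, Commute (e v) gS := fun v => commute_gS_of_el8 (hEc v.val v.2).1.1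
  have he2 : ∀ v, Commute (e v) b2 := fun v => commute_of_el8 (hEc v.val v.2).1.2
  have he3 : ∀ v, Commute (e v) b3 := fun v => commute_of_el8 (hEc v.val v.2).2
  let f : Fin R.length × Fin S.length × Fin 16 → (Gam ⊓ centralizer ({gS} : Set M8) : Subgroup M8) :=
    fun p => ⟨r p.1 * s p.2.1 * e p.2.2, mul_mem (mul_mem (ev_LM8_mem _) (ev_LM8_mem _)) (ev_LM8_mem _),
      mem_centralizer_singleton_iff.2 (((hrS _).mul_left (hsS _)).mul_left (heS _)).eq⟩
  have hr_of : ∀ a j v, r a * s j * e v * b2 * (r a * s j * e v)⁻¹ = r a * b2 * (r a)⁻¹ := fun a j v => by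
    have h1 : s j * b2 = b2 * s j := (hs2 j).eq
    have h2 : e v * b2 = b2 * e v := (he2 v).eq
    calc r a * s j * e v * b2 * (r a * s j * e v)⁻¹ = r a * s j * (e v * b2) * (r a * s j * e v)⁻¹ := by group
      _ = r a * (s j * b2) * (s j)⁻¹ * (r a)⁻¹ := by rw [h2]; group
      _ = r a * b2 * (r a)⁻¹ := by rw [h1]; group
  have hs_of : ∀ j v, s j * e v * b3 * (s j * e v)⁻¹ = s j * b3 * (s j)⁻¹ := fun j v => by
    calc s j * e v * b3 * (s j * e v)⁻¹ = s j * (e v * b3) * (s j * e v)⁻¹ := by group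
      _ = s j * b3 * (s j)⁻¹ := by rw [(he3 v).eq]; group
  have hrinj : ∀ a a', r a * b2 * (r a)⁻¹ = r a' * b2 * (r a')⁻¹ → a = a' := fun a a' h => by
    refine Fin.ext (nodupN_inj hRn (by simp [conjK]) (by simp [conjK]) ?_)
    rw [conjK_getD _ _ a.2, conjK_getD _ _ a'.2]
    refine key8_eq (rep_conj8 _ _) ?_
    rw [show ev LM8 (R.getD a.val []) * ev LM8 (bW8 c 2) * (ev LM8 (R.getD a.val []))⁻¹ =
      ev LM8 (R.getD a'.val []) * ev LM8 (bW8 c 2) * (ev LM8 (R.getD a'.val []))⁻¹ from h]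
    exact rep_conj8 _ _
  have hsinj : ∀ j j', s j * b3 * (s j)⁻¹ = s j' * b3 * (s j')⁻¹ → j = j' := fun j j' h => by
    refine Fin.ext (nodupN_inj hSn (by simp [conjK]) (by simp [conjK]) ?_)
    rw [conjK_getD _ _ j.2, conjK_getD _ _ j'.2]
    refine key8_eq (rep_conj8 _ _) ?_
    rw [show ev LM8 (S.getD j.val []) * ev LM8 (bW8 c 3) * (ev LM8 (S.getD j.val []))⁻¹ =
      ev LM8 (S.getD j'.val []) * ev LM8 (bW8 c 3) * (ev LM8 (S.getD j'.val []))⁻¹ from h]
    exact rep_conj8 _ _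
  have hf : Function.Injective f := by
    rintro ⟨a, j, v⟩ ⟨a', j', v'⟩ h
    have h' : r a * s j * e v = r a' * s j' * e v' := congrArg Subtype.val h
    obtain rfl : a = a' := hrinj _ _ (by rw [← hr_of a j v, h', hr_of])
    rw [mul_assoc, mul_assoc] at h'
    have h'' := mul_left_cancel h'
    obtain rfl : j = j' := hsinj _ _ (by rw [← hs_of j v, h'', hs_of])
    have h3 : ev LM8 (c.eW v.val) = ev LM8 (c.eW v'.val) := mul_left_cancel h''
    have hv : v = v' := Fin.ext (nodupN_inj hEn (by simp) (by simp) (by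
      simp only [List.getD_eq_getElem?_getD, List.getElem?_map, List.getElem?_range v.2,
        List.getElem?_range v'.2, Option.map_some, Option.getD_some]
      exact key8_eq (rep8 _) (h3 ▸ rep8 _)))
    rw [hv]
  have hbij : Function.Bijective f := hf.bijective_of_nat_card_le (by
    rw [Nat.card_prod, Nat.card_prod, Nat.card_fin, Nat.card_fin, Nat.card_fin, ← mul_assoc, hlen]
    exact card_cen_le)
  intro g hg hgs
  obtain ⟨⟨a, j, v⟩, hp⟩ := hbij.2 ⟨g, hg, mem_centralizer_singleton_iff.2 hgs.eq⟩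
  have hge : g = r a * s j * e v := (congrArg Subtype.val hp).symm
  refine ⟨_, hRm a, _, hSm j, v.val, v.2, hge, fun hall => ?_⟩
  have hR1 : 0 < R.length := Nat.pos_of_ne_zero fun h0 => by rw [h0] at hlen; simp at hlen
  have hS1 : 0 < S.length := Nat.pos_of_ne_zero fun h0 => by rw [h0] at hlen; simp at hlen
  have hR00 : R.getD 0 [] = [] := by
    rw [List.getD_eq_getElem _ _ hR1]; rwa [List.getD_eq_getElem _ _ hR1] at hR0
  have hS00 : S.getD 0 [] = [] := by
    rw [List.getD_eq_getElem _ _ hS1]; rwa [List.getD_eq_getElem _ _ hS1] at hS0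
  have k2 : g * b2 * g⁻¹ = b2 := by
    have := hall 4 (by norm_num)
    rw [e4] at this
    rw [this.eq, mul_inv_cancel_right]
  have ha : a = ⟨0, hR1⟩ := hrinj _ _ (by
    rw [← hr_of a j v, ← hge, k2]
    show b2 = ev LM8 (R.getD 0 []) * b2 * (ev LM8 (R.getD 0 []))⁻¹
    rw [hR00, ev_nil, one_mul, inv_one, mul_one])
  have hra : r a = 1 := by rw [ha]; show ev LM8 (R.getD 0 []) = 1; rw [hR00, ev_nil]
  have k3 : g * b3 * g⁻¹ = b3 := by
    have := hall 8 (by norm_num)
    rw [e8] at this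
    rw [this.eq, mul_inv_cancel_right]
  have hj : j = ⟨0, hS1⟩ := hsinj _ _ (by
    rw [← hs_of j v, ← show g = s j * e v by rw [hge, hra, one_mul], k3]
    show b3 = ev LM8 (S.getD 0 []) * b3 * (ev LM8 (S.getD 0 []))⁻¹
    rw [hS00, ev_nil, one_mul, inv_one, mul_one])
  exact ⟨by rw [ha]; exact hR00, by rw [hj]; exact hS00⟩

theorem ce_of_trans {c : McLUniq.Cl} {R S : List (List Nat)} (h : transOK c R S = true) : CEHyp c := by
  obtain ⟨e2, -, -, hall⟩ := trans_facts h
  intro g hg hc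
  have hgs : Commute g gS := e2 ▸ hc 2 (by norm_num)
  obtain ⟨r, -, s, -, v, hv, hge, himp⟩ := hall g hg hgs
  obtain ⟨rfl, rfl⟩ := himp hc
  exact ⟨v, hv, by rw [hge, ev_nil, one_mul, one_mul]⟩

theorem ceHyp_one : CEHyp one := ce_of_trans trans_one

theorem ceHyp_two : CEHyp two := ce_of_trans trans_two

theorem rep_negS : Rep (Mat.mul neg1 sS) (-gS) := by
  have h := rep_neg1.mul rS
  rwa [neg_one_mul] at h

theorem four_cases {F : St} (hF : F ∈ fourS) :
    ∃ d ∈ V8, Rep F d := by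
  simp only [fourS, List.mem_cons, List.not_mem_nil, or_false] at hF
  rcases hF with rfl | rfl | rfl | rfl
  exacts [⟨1, by simp [V8], rep_one⟩, ⟨-1, by simp [V8], rep_neg1⟩, ⟨gS, by simp [V8], rS⟩,
    ⟨-gS, by simp [V8], rep_negS⟩]

theorem four_mem {d : M8} (hd : d ∈ V8) : ∃ F ∈ fourS, Rep F d := by
  rcases hd with rfl | rfl | rfl | rfl
  exacts [⟨one, by simp [fourS], rep_one⟩, ⟨neg1, by simp [fourS], rep_neg1⟩, ⟨sS, by simp [fourS], rS⟩,
    ⟨_, by simp [fourS], rep_negS⟩]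

theorem centHyp : CentHyp := by
  intro g hg hgs hd
  obtain ⟨-, -, -, hall⟩ := trans_facts trans_one
  obtain ⟨r, hr, s, hs, v, hv, hge, -⟩ := hall g hg hgs
  have h := cent_ok
  simp only [centOK, Bool.and_eq_true, List.all_eq_true, List.mem_range, Bool.or_eq_true, Bool.not_eq_true',
    List.any_eq_true, Nat.beq_eq, ← Bool.not_eq_true] at h
  have hk : ∀ i, i < McLUniq.dImg.length → backK r s i = fwdK v i := fun i hi => by
    have hb : Rep (Mat.mul (Mat.mul (el8 (inv8 s)) (Mat.mul (Mat.mul (el8 (inv8 r))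
        (el8 (McLUniq.dImg.getD i []))) (el8 r))) (el8 s))
        ((ev LM8 s)⁻¹ * ((ev LM8 r)⁻¹ * ev LM8 (McLUniq.dImg.getD i []) * ev LM8 r) * ev LM8 s) := by
      have := ((rep8 (inv8 s)).mul (((rep8 (inv8 r)).mul (rep8 (McLUniq.dImg.getD i []))).mul (rep8 r))).mul (rep8 s)
      rwa [ev_inv8, ev_inv8] at this
    have hf := rep_conj8 (one.eW v) (McLUniq.dImg.getD i [])
    have hc : g * ev LM8 (McLUniq.dImg.getD i []) * g⁻¹ = ev LM8 (McLUniq.dImg.getD i []) := by
      rw [(hd i hi).eq, mul_inv_cancel_right]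
    have e : (ev LM8 s)⁻¹ * ((ev LM8 r)⁻¹ * ev LM8 (McLUniq.dImg.getD i []) * ev LM8 r) * ev LM8 s =
        ev LM8 (one.eW v) * ev LM8 (McLUniq.dImg.getD i []) * (ev LM8 (one.eW v))⁻¹ := by
      conv_lhs => rw [← hc, hge]
      group
    rw [e] at hb
    exact congrArg key (hb.unique hf)
  rcases h.2 r hr s hs v hv with hh | ⟨F, hF, he⟩
  · exact absurd ⟨⟨hk 0 (by rw [h.1]; norm_num), hk 1 (by rw [h.1]; norm_num)⟩, hk 2 (by rw [h.1]; norm_num)⟩ hh
  · obtain ⟨d, hdV, hFd⟩ := four_cases hF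
    have hgd : g = d := hge.trans (eq_of_eqS (((rep8 r).mul (rep8 s)).mul (rep8 _)) hFd he)
    rw [hgd]
    simpa [V8] using hdV

theorem pure_of_move {c : McLUniq.Cl} {ks : List (List Nat)} (h : moveOK c ks = true) : PureHyp c := by
  intro a ha b hb ha2 _ hab has hbs haV hbV hall
  simp only [moveOK, Bool.and_eq_true, List.all_eq_true, Bool.or_eq_true, Bool.not_eq_true', List.any_eq_true,
    List.mem_range, ← Bool.not_eq_true] at h
  have one_mem8 : (1 : M8) ∈ V8 := by simp [V8]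
  have mem_pure : ∀ u : M8, Commute u gS → u ∉ V8 → (∀ d ∈ V8, CG gS (u * d)) →
      ∃ k ∈ pureL, Rep (unkey k) u := by
    intro u hus huV hud
    obtain ⟨k, hk, hku⟩ : In bstS u := (class_s.2 u).1 (by have := hud 1 one_mem8; rwa [mul_one] at this)
    refine ⟨k, List.mem_filter.2 ⟨hk, ?_⟩, hku⟩
    simp only [Bool.and_eq_true, Bool.not_eq_true', ← Bool.not_eq_true, List.any_eq_true, List.all_eq_true]
    refine ⟨⟨(commS_iff hku rS).2 hus, ?_⟩, fun F hF => ?_⟩
    · rintro ⟨F, hF, he⟩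
      obtain ⟨d, hd, hFd⟩ := four_cases hF
      exact huV (eq_of_eqS hku hFd he ▸ hd)
    · obtain ⟨d, hd, hFd⟩ := four_cases hF
      exact ((class_s.2 _).1 (hud d hd)).has class_s.1 (hku.mul hFd)
  have hbV' : b ∉ V8 := fun hh => (hbV b hh).1 rfl
  have habV : a * b ∉ V8 := fun hh => by
    have h1 : a * a = 1 := ha2
    exact (hbV _ hh).2 (by rw [← mul_assoc, h1, one_mul])
  obtain ⟨ka, hka, hra⟩ := mem_pure a has haV (hall a (by simp))
  obtain ⟨kb, hkb, hrb⟩ := mem_pure b hbs hbV' (hall b (by simp))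
  obtain ⟨kab, hkab, hrab⟩ := mem_pure (a * b) (has.mul_left hbs) habV (hall (a * b) (by simp))
  rcases h.2 ka hka kb hkb with ((hh | ⟨F, hF, he⟩) | hh) | ⟨w, hw, ⟨v, hv, hwv⟩, u, hu, hwu⟩
  · exact absurd ((commS_iff hra hrb).2 hab) hh
  · obtain ⟨d, hd, hFd⟩ := four_cases hF
    exact absurd (eq_of_eqS (hra.mul hFd) hrb he).symm (hbV d hd).2
  · refine absurd ⟨kab, hkab, ?_⟩ hh
    rw [show key (Mat.mul (unkey ka) (unkey kb)) = kab from by
      rw [← hrab.unique (hra.mul hrb)]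
      simp [key, unkey, Nat.div_add_mod']]
    exact Nat.beq_refl kab
  · refine ⟨ev LM8 w, ev_LM8_mem w, commute_gS_of_el8 (h.1 w hw), ⟨v, hv, ?_⟩, u, hu, ?_⟩
    · have := ((rep8 w).mul hra).mul (rep8 (inv8 w))
      rw [ev_inv8] at this
      exact eq_of_eqS this (rep8 _) hwv
    · have := ((rep8 w).mul hrb).mul (rep8 (inv8 w))
      rw [ev_inv8] at this
      exact eq_of_eqS this (rep8 _) hwu

theorem pureHyp_one : PureHyp one := pure_of_move move_one

theorem pureHyp_two : PureHyp two := pure_of_move move_two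

end CfsgLib.Co3U.Glob
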