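import Cfsg.Agent.Co3U.Glob.GlueChecks
import Cfsg.Agent.McLEmb.Glue

/-!
# The conjugate of the eighth letter under the seventh

It acts on the first class like a fixed word; it differs from that word by an element of the class, and each
nontrivial one contradicts a relation between the conjugation's sources.
-/

set_option autoImplicit false
set_option maxRecDepth 100000
set_option linter.unusedSectionVars false

namespace CfsgLib.Co3U.Glob

open Subgroup CfsgLib.Coset CfsgLib.McLEmb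
open CfsgLib.McLUniq (one two apM apM_lt W6 ClOK oneOK)

variable {G : Type*} [Group G]

/-- A word in the eight letters in the group. -/
noncomputable def wpsi (ψ : Gam →* G) (u : List Nat) : G := ψ ⟨ev LM8 u, ev_LM8_mem u⟩

variable (ψ : Gam →* G)

theorem wpsi_eq {u v : List Nat} (h : ev LM8 u = ev LM8 v) : wpsi ψ u = wpsi ψ v := by
  simp only [wpsi, h]

theorem wpsi_append (u v : List Nat) : wpsi ψ (u ++ v) = wpsi ψ u * wpsi ψ v := by
  rw [wpsi, wpsi, wpsi, ← map_mul]
  exact congrArg ψ (Subtype.ext (ev_append LM8 u v))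

theorem wpsi_nil : wpsi ψ [] = 1 := by
  rw [wpsi, ← map_one ψ]
  exact congrArg ψ (Subtype.ext (ev_nil LM8))

theorem wpsi_inv8 (u : List Nat) : wpsi ψ (inv8 u) = (wpsi ψ u)⁻¹ := by
  rw [wpsi, wpsi, ← map_inv]
  exact congrArg ψ (Subtype.ext (ev_inv8 u))

theorem wpsi_inj (hinj : Function.Injective ψ) {u v : List Nat} (h : wpsi ψ u = wpsi ψ v) :
    ev LM8 u = ev LM8 v :=
  congrArg Subtype.val (hinj h)

variable {t : G} (Φ : Emb t)

/-- The embedding and the eighth letter are those of the matrix cover. -/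
def IsMap (x : G) : Prop :=
  ∀ u : List Nat, (∀ l ∈ u, l ≠ 6) → ev (Φ.LG ++ [1, x]) u = wpsi ψ u

variable {ψ Φ} {x : G} (hx : IsMap ψ Φ x)
include hx

theorem fl_low {l : Nat} (hl : l < 6) : fl (Φ.LG ++ [1, x]) l = fl Φ.LG l := by
  rw [fl, fl, List.getD_append _ _ _ _ (by rw [Φ.LG_len]; exact hl)]

theorem F_eq_wpsi {u : List Nat} (hu : W6 u) : Φ.F u = wpsi ψ u := by
  rw [← hx u fun l hl => by have := hu l hl; omega]
  induction u with
  | nil => rw [Φ.F_nil, ev_nil]
  | cons l u ih =>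
    rw [Φ.F_cons, ih fun k hk => hu k (List.mem_cons_of_mem _ hk), ev_cons, fl_low hx (hu l List.mem_cons_self)]
    congr 1
    simp [Emb.F]

theorem e_eq_wpsi {c : McLUniq.Cl} (hc : ClOK c) (v : Nat) : Φ.e c v = wpsi ψ (c.eW v) :=
  F_eq_wpsi hx (hc.eW_W6 v)

theorem x_eq_wpsi : x = wpsi ψ [7] := by
  rw [← hx [7] (by simp), ev_cons, ev_nil, mul_one, fl,
    List.getD_append_right _ _ _ _ (by rw [Φ.LG_len]; norm_num), Φ.LG_len]
  rfl

theorem x_sq : x * x = 1 := by
  rw [x_eq_wpsi hx, ← wpsi_append, ← wpsi_nil ψ]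
  exact wpsi_eq ψ ((ev_rels (by simp)).trans (ev_nil _).symm)

omit hx in
theorem words_ok : (∀ i, i < 3 → W6 (McLUniq.dGen.getD i []) ∧ W6 (McLUniq.dImg.getD i [])) ∧
    (∀ l ∈ awW, l ≠ 6) := by
  have h : ((List.range 3).all (fun i => (McLUniq.dGen.getD i [] ++ McLUniq.dImg.getD i []).all
      fun l => decide (l < 6))) = true ∧ (awW.all fun l => decide (l ≠ 6)) = true := by decide +kernel
  simp only [List.all_eq_true, List.mem_range, List.mem_append, decide_eq_true_eq] at h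
  exact ⟨fun i hi => ⟨fun l hl => h.1 i hi l (Or.inl hl), fun l hl => h.1 i hi l (Or.inr hl)⟩, h.2⟩

/-- **The conjugate of the eighth letter.** -/
theorem conj_x (hinj : Function.Injective ψ)
    (hcE : ∀ g, (∀ v, v < 16 → g * Φ.e one v = Φ.e one v * g) → Φ.InE one g) {w : G} (hw : w * w = 1)
    (hm : ∀ v, v < 16 → w * Φ.e one v * w⁻¹ = Φ.e one (apM one.xw v))
    (hd : ∀ i, i < McLUniq.dGen.length → w * Φ.F (McLUniq.dGen.getD i []) * w = Φ.F (McLUniq.dImg.getD i [])) :
    w * x * w = wpsi ψ awW := by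
  have he := e_eq_wpsi hx oneOK
  have hact := act_ok
  simp only [actOK, List.all_eq_true, List.mem_range, Bool.and_eq_true] at hact
  have hxi : x⁻¹ = x := inv_eq_of_mul_eq_one_right (x_sq hx)
  have hxe : ∀ v, v < 16 → x * Φ.e one v * x⁻¹ = Φ.e one (apM xeOne v) := fun v hv => by
    rw [hxi, x_eq_wpsi hx, he, he, ← wpsi_append, ← wpsi_append]
    exact wpsi_eq ψ (eq_of_el8 (hact v hv).1)
  set A := wpsi ψ awW with hA
  have hAe : ∀ v, v < 16 →
      A * Φ.e one v * A⁻¹ = Φ.e one (apM one.xw (apM xeOne (apM one.xw v))) := fun v hv => by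
    rw [hA, he, he, ← wpsi_inv8, ← wpsi_append, ← wpsi_append]
    exact wpsi_eq ψ (eq_of_el8 (hact v hv).2)
  set y := w * x * w with hy
  have hye : ∀ v, v < 16 → y * Φ.e one v * y⁻¹ = A * Φ.e one v * A⁻¹ := fun v hv => by
    rw [hAe v hv, ← hm _ (apM_lt _ _), ← hxe _ (apM_lt _ _), ← hm v hv, hy]
    group
  obtain ⟨v0, hv0, hz⟩ := hcE (A⁻¹ * y) fun v hv => by
    calc A⁻¹ * y * Φ.e one v = A⁻¹ * (y * Φ.e one v * y⁻¹) * y := by group
      _ = Φ.e one v * (A⁻¹ * y) := by rw [hye v hv]; group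
  set v1 := apM one.xw (apM xeOne (apM one.xw v0)) with hv1
  have hy1 : y = Φ.e one v1 * A := by
    rw [← hAe v0 hv0, ← hz]
    group
  rcases Nat.eq_zero_or_pos v1 with h0 | h0
  · rw [hy1, h0, Φ.e_zero oneOK, one_mul]
  exfalso
  have hv16 : v1 < 16 := apM_lt _ _
  have href := refute_ok
  simp only [refuteOK, Bool.and_eq_true, List.all_eq_true, List.mem_range, Bool.not_eq_true', beq_iff_eq] at href
  obtain ⟨⟨hlen, -⟩, href⟩ := href
  obtain ⟨hsrc, htgt⟩ := href (v1 - 1) (by omega)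
  rw [show v1 - 1 + 1 = v1 by omega] at htgt
  have hgen : ∀ i, w * wpsi ψ (srcW i) * w = wpsi ψ (tgtW v1 i) := fun i => by
    unfold srcW tgtW
    split_ifs with hi
    · rw [← F_eq_wpsi hx (words_ok.1 i hi).1, ← F_eq_wpsi hx (words_ok.1 i hi).2]
      exact hd i (by omega)
    · rw [← x_eq_wpsi hx, wpsi_append, ← he]
      exact hy1
  have hall : ∀ u : List Nat, w * wpsi ψ (u.flatMap srcW) * w = wpsi ψ (u.flatMap (tgtW v1)) := fun u => by
    induction u with
    | nil => simp [wpsi_nil, hw]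
    | cons i u ih =>
      rw [List.flatMap_cons, List.flatMap_cons, wpsi_append, wpsi_append, ← hgen i, ← ih]
      simp only [mul_assoc, ← mul_assoc w w, hw, one_mul]
  refine ne_of_el8 htgt (wpsi_inj ψ hinj ?_)
  rw [← hall, ← hall, wpsi_eq ψ (eq_of_el8 hsrc)]

end CfsgLib.Co3U.Glob
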