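import Cfsg.Agent.Co3U.ImageCore
import Cfsg.Agent.Co3U.Closing
import Cfsg.Agent.Co3U.Glob.Base

/-!
# The end of the recognition of the third Conway group

Eight elements satisfying the relators, generating a subgroup which contains the centralizer of `t` and fuses
`t` to `s`, give the third Conway group and generate the whole group.
-/

set_option autoImplicit false
set_option linter.style.haveILetI false

namespace CfsgLib.Co3U.Glob

open Cfsg Subgroup CfsgLib.Coset CfsgLib.OutConway

attribute [local irreducible] CfsgLib.Co3U.Image.imgL CfsgLib.Leech.shortVecs CfsgLib.Leech.halfTable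
  CfsgLib.Leech.quarterTable

theorem sub8_cW : sub8 Co3U.Data.wordC = Image.cW := by decide +kernel

theorem sub8_yW : sub8 Co3U.Data.wordY = Image.yW := by decide +kernel

/-- The recognition from the letters, given the bound on groups generated by lists satisfying the relators. -/
theorem iso_of_letters_of_bound {G : Type*} [Group G] [Finite G] {t s c y w : G} (L : Loc t s c y w)
    {L8 : List G} (h : Rels8 L8) (hle : centralizer ({t} : Set G) ≤ closure {x | x ∈ L8})
    (hs : ∃ g ∈ closure {x | x ∈ L8}, g * t * g⁻¹ = s)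
    (hc : ev L8 (sub8 Co3U.Data.wordC) = c) (hy : ev L8 (sub8 Co3U.Data.wordY) = y)
    (hb : ∀ P : List (Three.H × ↥(closure {x | x ∈ L8})), Rels8 P → Finite (closure {x | x ∈ P}) ∧
      Nat.card (closure {x | x ∈ P} : Subgroup (Three.H × ↥(closure {x | x ∈ L8}))) ≤ 495766656000) :
    Cfsg.Spor.IsoCo3 G := by
  set G0 := closure {x | x ∈ L8} with hG0
  let L' : List G0 := L8.attach.map fun x => ⟨x.1, subset_closure x.2⟩
  have hmap : L'.map G0.subtype = L8 := by
    simp only [L', List.map_map]
    exact List.attach_map_subtype_val L8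
  have hR : Rels8 L' := by
    refine ⟨by simp only [L', List.length_map, List.length_attach, h.len], fun u hu => Subtype.ext ?_⟩
    have := h.rel u hu
    rw [← hmap, Image.ev_map] at this
    exact this
  have hgen : closure {x | x ∈ L'} = ⊤ := by
    refine Subgroup.map_injective G0.subtype_injective ?_
    rw [← Image.closure_map_list, hmap, ← MonoidHom.range_eq_map, Subgroup.range_subtype]
  have htG : t ∈ G0 := hle (mem_centralizer_singleton_iff.2 rfl)
  haveI : Nontrivial G0 := ⟨⟨⟨t, htG⟩, 1, fun e => Invol.ne_one L.ord_t (congrArg Subtype.val e)⟩⟩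
  have hl : Image.imgL.length = L'.length := Image.length_imgL.trans hR.len.symm
  obtain ⟨e, he⟩ := Image.equiv_of_bound hl Image.gen_imgL hgen (hb _
    ⟨by rw [List.length_zip, hl, min_self, hR.len],
      fun u hu => Image.ev_zip hl (Image.rels_imgL.rel u hu) (hR.rel u hu)⟩)
  obtain ⟨x, hx5, hxc, hxy⟩ := Image.exists_five
  have hev : ∀ u, ((ev L' u : G0) : G) = ev L8 u := fun u => by
    rw [← hmap, Image.ev_map]
    rfl
  have hcy : ∀ u, Commute x (ev Image.imgL u) → Commute ((e x : G0) : G) (ev L8 u) := fun u hu => by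
    have := (hu.map e.toMonoidHom).map G0.subtype
    simp only [MulEquiv.coe_toMonoidHom, he] at this
    rw [← hev]
    exact this
  have h5 : ∃ z ∈ G0, orderOf z = 5 ∧ Commute z c ∧ Commute z y :=
    ⟨_, (e x).2, by rw [Subgroup.orderOf_coe, e.orderOf_eq, hx5],
      hc ▸ hcy _ (sub8_cW ▸ hxc), hy ▸ hcy _ (sub8_yW ▸ hxy)⟩
  have htop := L.eq_top_of_loc G0 hle hs h5
  exact ⟨((Subgroup.topEquiv.symm.trans (MulEquiv.subgroupCongr htop.symm)).trans e.symm).trans Image.toSpor⟩

end CfsgLib.Co3U.Glob
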