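import Cfsg.Agent.Co3U.Glob.Words
import Cfsg.Agent.McLUniq.ClTests

/-!
# Kernel checks for the conjugate of the eighth letter and for the elements of the two classes
-/

set_option autoImplicit false
set_option maxRecDepth 100000

namespace CfsgLib.Co3U.Glob

open CfsgLib.Coset CfsgLib.Co3U.Check
open CfsgLib.McLUniq (one two apM)

/-- The action of the eighth letter on the first class. -/
def xeOne : Nat := 34593

/-- The sources of the conjugation. -/
def srcW (i : Nat) : List Nat := if i < 3 then McLUniq.dGen.getD i [] else [7]

/-- The targets, with a vector part for the last one. -/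
def tgtW (v i : Nat) : List Nat := if i < 3 then McLUniq.dImg.getD i [] else one.eW v ++ awW

/-- The elements of a class outside the first two involutions are conjugates of the second one. -/
def pureOK (c : McLUniq.Cl) : Bool :=
  (List.range 16).all fun v => decide (v < 4) || bstS.has (Mat.key (el8 (c.eW v)))

/-- The eighth letter and its conjugate act on the first class as they should. -/
def actOK : Bool :=
  (List.range 16).all fun v =>
    eqS (el8 ([7] ++ one.eW v ++ [7])) (el8 (one.eW (apM xeOne v))) &&
      eqS (el8 (awW ++ one.eW v ++ inv8 awW)) (el8 (one.eW (apM one.xw (apM xeOne (apM one.xw v)))))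

/-- Each wrong value is refuted. -/
def refuteOK : Bool :=
  McLUniq.dGen.length == 3 && refuteW.length == 15 && (List.range 15).all fun j =>
    let p := refuteW.getD j ([], [])
    eqS (el8 (p.1.flatMap srcW)) (el8 (p.2.flatMap srcW)) &&
      !eqS (el8 (p.1.flatMap (tgtW (j + 1)))) (el8 (p.2.flatMap (tgtW (j + 1))))

/-- The inverse of the target word. -/
def awInvOK : Bool := eqS (el8 (awW ++ inv8 awW)) (el8 [])

theorem pure_one : pureOK one = true := by decide +kernel

theorem pure_two : pureOK two = true := by decide +kernel

theorem act_ok : actOK = true := by decide +kernel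

theorem refute_ok : refuteOK = true := by decide +kernel

theorem awInv_ok : awInvOK = true := by decide +kernel

end CfsgLib.Co3U.Glob
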