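import Cfsg.Agent.Co3U.Glob.LettersOf
import Cfsg.Agent.McLEmb.Real

/-!
# Every action fixing the first two vectors is realised in the matrix cover
-/

set_option autoImplicit false
set_option maxRecDepth 100000

namespace CfsgLib.Co3U.Glob

open CfsgLib.Coset CfsgLib.McLEmb CfsgLib.Co3U.Check CfsgLib.Co3U.Facts
open CfsgLib.McLUniq (one two apM colM idM mulM apM_idM apM_mulM apM_lt apM_basis colM_eq)

/-- Two realisers for the first class, with their matrices. -/
def realOne : List (Nat × List Nat) := [(59425, [2]), (50977, [4, 7, 0, 0, 4, 7])]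

/-- Two realisers for the second class, with their matrices. -/
def realTwo : List (Nat × List Nat) := [(63521, [2]), (50721, [5, 1, 7, 0, 5, 1, 2, 0])]

/-- The words act by their matrices. -/
def realActOK (c : McLUniq.Cl) (ks : List (Nat × List Nat)) : Bool :=
  ks.all fun p => (List.range 16).all fun v => eqS (el8 (p.2 ++ c.eW v)) (el8 (c.eW (apM p.1 v) ++ p.2))

theorem realAct_one : realActOK one realOne = true := by decide +kernel

theorem realAct_two : realActOK two realTwo = true := by decide +kernel

theorem realSpan_one : realOK (realOne.map Prod.fst) 9 = true := by decide +kernel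

theorem realSpan_two : realOK (realTwo.map Prod.fst) 9 = true := by decide +kernel

/-- The hypothesis on a class from realisers generating the stabilizer. -/
theorem real_of_check {c : McLUniq.Cl} {ks : List (Nat × List Nat)} {n : Nat} (ha : realActOK c ks = true)
    (hs : realOK (ks.map Prod.fst) n = true) : RealHyp c := by
  intro M hM h1 h2 hns
  have hS : ∀ n, ∀ X ∈ prodSet (ks.map Prod.fst) n, ∃ k ∈ Gam, ∀ v < 16,
      k * ev LM8 (c.eW v) * k⁻¹ = ev LM8 (c.eW (apM X v)) := by
    intro n
    induction n with
    | zero =>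
      intro X hX
      rw [prodSet, List.mem_singleton] at hX
      exact ⟨1, one_mem _, fun v hv => by rw [hX, apM_idM hv, one_mul, inv_one, mul_one]⟩
    | succ n ih =>
      intro X hX
      rcases mem_addNew hX with h | h
      · obtain ⟨Y, hY, hg⟩ := List.mem_flatMap.1 h
        obtain ⟨g, hgm, rfl⟩ := List.mem_map.1 hg
        obtain ⟨p, hp, rfl⟩ := List.mem_map.1 hgm
        obtain ⟨k, hk, hke⟩ := ih Y hY
        refine ⟨ev LM8 p.2 * k, mul_mem (ev_LM8_mem _) hk, fun v hv => ?_⟩
        have he := eq_of_el8 (List.all_eq_true.1 (List.all_eq_true.1 ha p hp) (apM Y v)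
          (List.mem_range.2 (apM_lt _ _)))
        rw [ev_append, ev_append] at he
        calc ev LM8 p.2 * k * ev LM8 (c.eW v) * (ev LM8 p.2 * k)⁻¹
            = ev LM8 p.2 * (k * ev LM8 (c.eW v) * k⁻¹) * (ev LM8 p.2)⁻¹ := by group
          _ = ev LM8 (c.eW (apM (mulM p.1 Y) v)) := by rw [hke v hv, he, apM_mulM, mul_inv_cancel_right]
      · exact ih X h
  have c0 : colM M 0 = 1 := by rw [← (apM_basis M).1]; exact h1
  have c1 : colM M 1 = 2 := by rw [← (apM_basis M).2.1]; exact h2
  have hMeq : M = 1 + 16 * 2 + 256 * (M / 256) := by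
    rw [colM_eq] at c0 c1
    norm_num at c0 c1
    omega
  have hh := List.all_eq_true.1 hs (M / 256) (List.mem_range.2 (by omega))
  simp only [← hMeq, Bool.or_eq_true, List.any_eq_true, List.mem_range, Bool.and_eq_true,
    Bool.not_eq_true', Nat.beq_eq] at hh
  rcases hh with ⟨v, hv, hv0, hv1⟩ | ⟨X, hX, rfl⟩
  · exfalso
    rw [hns v hv hv1] at hv0
    simp at hv0
  · exact hS n _ hX

theorem realHyp_one : RealHyp one := real_of_check realAct_one realSpan_one

theorem realHyp_two : RealHyp two := real_of_check realAct_two realSpan_two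

end CfsgLib.Co3U.Glob
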