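import Cfsg.Agent.Co3U.Glob.SetupInj
import Cfsg.Agent.Co3U.Glob.Bound
import Cfsg.Agent.McLUniq.Letter

/-!
# The letters in a group with a matrix cover as involution centralizer
-/

set_option autoImplicit false
set_option maxRecDepth 100000
set_option linter.style.haveILetI false

namespace CfsgLib.Co3U.Glob

open Subgroup CfsgLib.Coset CfsgLib.Co3U.Mat CfsgLib.Co3U.Data CfsgLib.Co3U.Check CfsgLib.Co3U.Facts
open CfsgLib.McLUniq (L0 W6 subH mem_subH fl_mem_subH)

attribute [local irreducible] el8 key LM8 gamW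

theorem rels_L0_six : (rels6.all fun r => (r.all fun l => decide (l < 6)) && McLUniq.eqW r []) = true := by
  decide +kernel

/-- The first six permutations generate at most 40320 elements. -/
theorem card_subH : Finite (subH L0) ∧ Nat.card (subH L0) ≤ 40320 := by
  have hr := List.all_eq_true.1 rels_L0_six
  have h6 : (L0.take 6).length = 6 := by simp [McLUniq.L0_len]
  have hev : ∀ r ∈ rels6, ev (L0.take 6) r = 1 := fun r hrm => by
    obtain ⟨hl, he⟩ := Bool.and_eq_true _ _ ▸ hr r hrm
    have e : ev (L0.take 6) r = ev L0 r := by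
      unfold ev
      refine congrArg List.prod (List.map_congr_left fun l hlm => ?_)
      have hl6 : l < 6 := by simpa using List.all_eq_true.1 hl l hlm
      rw [fl, fl, List.getD_eq_getElem _ _ (by omega), List.getD_eq_getElem _ _ (by rw [McLUniq.L0_len]; omega),
        List.getElem_take]
    rw [e, McLUniq.ev_eq_of_eqW he, ev_nil]
  obtain ⟨hf, hc⟩ := card_six h6 hev
  have hle : subH L0 ≤ Subgroup.closure {x | x ∈ L0.take 6} := (Subgroup.closure_le _).2 fun x hx => by
    obtain ⟨l, hl, rfl⟩ := List.mem_map.1 hx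
    have hl6 : l < 6 := by fin_cases hl <;> decide
    refine Subgroup.subset_closure ?_
    show fl L0 l ∈ L0.take 6
    rw [fl, List.getD_eq_getElem _ _ (by rw [McLUniq.L0_len]; omega)]
    exact List.mem_take_iff_getElem.2 ⟨l, by simp [McLUniq.L0_len]; omega, rfl⟩
  exact ⟨Finite.of_injective _ (inclusion_injective hle),
    (Nat.card_le_card_of_injective _ (inclusion_injective hle)).trans hc⟩

/-- The letters in a group whose involution centralizer is the matrix cover. -/
theorem exists_setup {G : Type*} [Group G] [Finite G] (t : G) (psi : ↥Gam →* G)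
    (hinj : Function.Injective psi) (hrange : ∀ g, g ∈ centralizer ({t} : Set G) ↔ g ∈ psi.range)
    (ht : psi ⟨-1, neg_one_mem⟩ = t) :
    ∃ (Φ : McLEmb.Emb t) (x : G),
      (∀ w : List Nat, (∀ l ∈ w, l ≠ 6) → ev (Φ.LG ++ [1, x]) w = psi ⟨ev LM8 w, ev_LM8_mem w⟩) ∧
      centralizer ({t} : Set G) ≤ Subgroup.closure ({y | y ∈ Φ.LG} ∪ {x}) := by
  classical
  obtain ⟨h, hh⟩ := exists_hom6 (L := LM8.take 6) (by simp [LM8_len]) fun r hr => by
    have e : ev (LM8.take 6) r = ev LM8 r := by
      unfold ev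
      refine congrArg List.prod (List.map_congr_left fun l hlm => ?_)
      have h6 : l < 6 := by
        exact of_decide_eq_true (List.all_eq_true.1 (Bool.and_eq_true _ _ ▸ List.all_eq_true.1 rels_L0_six r hr).1 l hlm)
      rw [fl, fl, List.getD_eq_getElem _ _ (by simp [LM8_len]; omega),
        List.getD_eq_getElem _ _ (by rw [LM8_len]; omega), List.getElem_take]
    rw [e]
    exact ev_rels (List.mem_append_left _ (List.mem_append_left _ hr))
  have hh' : ∀ l < 6, ∀ hl, h ⟨fl L0 l, hl⟩ = fl LM8 l := fun l hl hm => by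
    rw [hh l hl hm, fl, fl, List.getD_eq_getElem _ _ (by simp [LM8_len]; omega),
      List.getD_eq_getElem _ _ (by rw [LM8_len]; omega), List.getElem_take]
  have hGam : ∀ p, h p ∈ Gam := by
    rintro ⟨p, hp⟩
    induction hp using Subgroup.closure_induction with
    | mem y hy =>
      obtain ⟨l, hl, rfl⟩ := List.mem_map.1 hy
      have hl6 : l < 6 := by fin_cases hl <;> decide
      exact (hh' l hl6 _).symm ▸ fl_LM8_mem l
    | one => exact (map_one h).symm ▸ one_mem _
    | mul a b ha hb iha ihb =>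
      rw [show (⟨a * b, mul_mem ha hb⟩ : ↥(subH L0)) = ⟨a, ha⟩ * ⟨b, hb⟩ from rfl, map_mul]
      exact mul_mem iha ihb
    | inv a ha iha =>
      rw [show (⟨a⁻¹, inv_mem ha⟩ : ↥(subH L0)) = ⟨a, ha⟩⁻¹ from rfl, map_inv]
      exact inv_mem iha
  obtain ⟨hfin, hc⟩ := card_subH
  have hinj6 := inj_of_card h hh' hfin hc
  let f : ↥(subH L0) →* G := psi.comp (h.codRestrict Gam hGam)
  have hev : ∀ w, (hw : W6 w) → h ⟨ev L0 w, mem_subH hw⟩ = ev LM8 w := by
    intro w
    induction w with
    | nil => intro _; exact map_one h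
    | cons l w ih =>
      intro hw
      have hl : l < 6 := hw l List.mem_cons_self
      have hw' : W6 w := fun k hk => hw k (List.mem_cons_of_mem _ hk)
      rw [show (⟨ev L0 (l :: w), mem_subH hw⟩ : ↥(subH L0)) =
          ⟨fl L0 l, fl_mem_subH hl⟩ * ⟨ev L0 w, mem_subH hw'⟩ from Subtype.ext (ev_cons _ l w),
        map_mul, hh' l hl, ih hw', ev_cons]
  let Φ : McLEmb.Emb t :=
    { f := f
      inj := fun a b e => hinj6 (congrArg Subtype.val (hinj e))
      le := fun p => (hrange _).2 ⟨_, rfl⟩
      t_eq := fun hm => by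
        rw [← ht]
        show psi _ = psi _
        refine congrArg psi (Subtype.ext ?_)
        show h ⟨ev L0 McLUniq.tW, hm⟩ = -1
        rw [← ev_tW, ← hev _ McLUniq.Phi.tW_W6] }
  refine ⟨Φ, psi ⟨fl LM8 7, fl_LM8_mem 7⟩, ?_, ?_⟩
  · set x := psi ⟨fl LM8 7, fl_LM8_mem 7⟩
    have hl : ∀ l, fl (Φ.LG ++ [1, x]) l = psi ⟨fl LM8 l, fl_LM8_mem l⟩ := fun l => by
      rcases lt_or_ge l 6 with h6 | h6
      · rw [fl, List.getD_append _ _ _ _ (by rw [Φ.LG_len]; exact h6), ← fl, Φ.fl_LG h6]
        exact congrArg psi (Subtype.ext (hh' l h6 _))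
      · rw [fl, List.getD_append_right _ _ _ _ (by rw [Φ.LG_len]; exact h6), Φ.LG_len]
        rcases lt_or_ge l 8 with h8 | h8
        · interval_cases l
          · rw [show ([1, x] : List G).getD (6 - 6) 1 = 1 from rfl]
            refine (map_one psi).symm.trans (congrArg psi (Subtype.ext ?_))
            show (1 : M8) = fl LM8 6
            unfold LM8 gamW
            rfl
          · rfl
        · rw [List.getD_eq_default _ _ (by simp; omega)]
          refine (map_one psi).symm.trans (congrArg psi (Subtype.ext ?_))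
          exact (fl_of_le LM8 (by rw [LM8_len]; exact h8)).symm
    intro w hw6
    clear hw6
    induction w with
    | nil => exact (map_one psi).symm
    | cons l w ih =>
      rw [ev_cons, hl, ih, ← map_mul]
      exact congrArg psi (Subtype.ext (ev_cons _ l w).symm)
  · intro g hg
    obtain ⟨⟨k, hk⟩, rfl⟩ := (hrange g).1 hg
    set C := Subgroup.closure ({y | y ∈ Φ.LG} ∪ {psi ⟨fl LM8 7, fl_LM8_mem 7⟩})
    have hle : Gam ≤ (C.comap psi).map Gam.subtype := by
      have hfl : ∀ l, fl LM8 l ∈ (C.comap psi).map Gam.subtype := fun l => by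
        refine ⟨⟨fl LM8 l, fl_LM8_mem l⟩, ?_, rfl⟩
        show psi ⟨fl LM8 l, fl_LM8_mem l⟩ ∈ C
        rcases lt_or_ge l 6 with h6 | h6
        · have e : psi ⟨fl LM8 l, fl_LM8_mem l⟩ = fl Φ.LG l := by
            rw [Φ.fl_LG h6]; exact congrArg psi (Subtype.ext (hh' l h6 _).symm)
          rw [e, fl, List.getD_eq_getElem _ _ (by rw [Φ.LG_len]; exact h6)]
          exact Subgroup.subset_closure (Or.inl (List.getElem_mem _))
        · rcases lt_trichotomy l 7 with h7 | rfl | h7
          · obtain rfl : l = 6 := by omega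
            rw [show (⟨fl LM8 6, fl_LM8_mem 6⟩ : ↥Gam) = 1 from Subtype.ext (by unfold LM8 gamW; rfl), map_one]
            exact one_mem C
          · exact Subgroup.subset_closure (Or.inr rfl)
          · rw [show (⟨fl LM8 l, fl_LM8_mem l⟩ : ↥Gam) = 1 from
              Subtype.ext (fl_of_le LM8 (by rw [LM8_len]; omega)), map_one]
            exact one_mem C
      have hevC : ∀ w, ev LM8 w ∈ (C.comap psi).map Gam.subtype := fun w => by
        induction w with
        | nil => exact one_mem _
        | cons l w ih => rw [ev_cons]; exact mul_mem (hfl l) ih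
      refine (Subgroup.closure_le _).2 ?_
      rintro _ ⟨i, rfl⟩
      have e : gw [(i : ℕ)] = CfsgLib.SpSixMult.X 0 * CfsgLib.SpSixMult.X i.succ := by
        simp only [gw, List.map_cons, List.map_nil, List.prod_cons, List.prod_nil, mul_one]
        rw [letter, if_pos i.2, g6, dif_pos i.2]
      show CfsgLib.SpSixMult.X 0 * CfsgLib.SpSixMult.X i.succ ∈ _
      rw [← e, ← gensW_ok i.2]
      exact hevC _
    obtain ⟨k', hk', e⟩ := hle hk
    obtain rfl : k' = ⟨k, hk⟩ := Subtype.ext e
    exact hk'

end CfsgLib.Co3U.Glob
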