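import Cfsg.Agent.Co3U.Glob.LettersOf
import Cfsg.Agent.Co3U.Glob.Setup
import Cfsg.Agent.Co3U.Glob.RealFacts
import Cfsg.Agent.Co3U.Glob.CentFacts

/-!
# Eight letters of the third Conway group in a group with involution centralizer `2·Sp₆(2)`
-/

set_option autoImplicit false

namespace CfsgLib.Co3U.Glob

open Subgroup CfsgLib.Coset

/-- **The letters**: eight elements satisfying the relators, generating the centralizer and fusing. -/
theorem exists_letters {G : Type*} [Group G] [Finite G] (hO : Cfsg.oddCore G = ⊥) (hZ : Subgroup.center G = ⊥)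
    {t : G} (ψ : Gam →* G) (hinj : Function.Injective ψ)
    (hrange : ∀ g, g ∈ centralizer ({t} : Set G) ↔ g ∈ ψ.range) (ht : ψ ⟨-1, neg_one_mem⟩ = t) {c y w : G}
    (L : Loc t (ψ LocalModel.mS) c y w) :
    ∃ L8 : List G, Rels8 L8 ∧ centralizer ({t} : Set G) ≤ closure {x | x ∈ L8} ∧
      (∃ g ∈ closure {x | x ∈ L8}, g * t * g⁻¹ = ψ LocalModel.mS) ∧
      ∀ u : List Nat, (∀ l ∈ u, l < 12) → ev L8 (sub8 u) = ψ ⟨Facts.gw u, Facts.gw_mem u⟩ := by
  obtain ⟨Φ, x, hx, hgen⟩ := exists_setup t ψ hinj hrange ht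
  exact exists_letters_of hO hZ hx hgen hinj hrange ht L ceHyp_one ceHyp_two realHyp_one realHyp_two centHyp
    pureHyp_one pureHyp_two

end CfsgLib.Co3U.Glob
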