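import Cfsg.Agent.Co3U.Glob.Letters
import Cfsg.Agent.Co3U.Glob.Finish
import Cfsg.Agent.Co3U.Glob.Bound

/-!
# The third Conway group from the centralizer of an involution
-/

set_option autoImplicit false
set_option maxRecDepth 100000

namespace CfsgLib.Co3U.Glob

open Subgroup CfsgLib.Coset

theorem mC_eq : LocalModel.mC = ⟨Facts.gw Data.wordC, Facts.gw_mem _⟩ := rfl

theorem mY_eq : LocalModel.mY = ⟨Facts.gw Data.wordY, Facts.gw_mem _⟩ := rfl

attribute [local irreducible] CfsgLib.Co3U.Facts.gS CfsgLib.Co3U.Facts.gC CfsgLib.Co3U.Facts.gY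

theorem word_lt : (∀ l ∈ Data.wordC, l < 12) ∧ ∀ l ∈ Data.wordY, l < 12 := by decide +kernel

/-- A group without odd core and centre with an involution centralizer `2·Sp₆(2)` is `Co₃`. -/
theorem isoCo3 {G : Type*} [Group G] [Finite G] (hO : Cfsg.oddCore G = ⊥) (hZ : Subgroup.center G = ⊥)
    {t : G} (ht : orderOf t = 2) (hC : Cfsg.IsNonsplitDoubleCover (centralizer ({t} : Set G)) K6) :
    Cfsg.Spor.IsoCo3 G := by
  obtain ⟨e, he, L⟩ := LocalModel.exists_loc t ht hC
  let ψ : Gam →* G := (centralizer ({t} : Set G)).subtype.comp e.symm.toMonoidHom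
  have hinj : Function.Injective ψ := Subtype.val_injective.comp e.symm.injective
  have hrange : ∀ g, g ∈ centralizer ({t} : Set G) ↔ g ∈ ψ.range := fun g => by
    refine ⟨fun hg => ⟨e ⟨g, hg⟩, congrArg Subtype.val (e.symm_apply_apply ⟨g, hg⟩)⟩, ?_⟩
    rintro ⟨γ, rfl⟩
    exact (e.symm γ).2
  have htC : t ∈ centralizer ({t} : Set G) := mem_centralizer_singleton_iff.2 rfl
  have htψ : ψ ⟨-1, neg_one_mem⟩ = t := by
    rw [show (⟨-1, neg_one_mem⟩ : Gam) = e ⟨t, htC⟩ from Subtype.ext he.symm]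
    exact congrArg Subtype.val (e.symm_apply_apply ⟨t, htC⟩)
  obtain ⟨L8, hR, hle, hs, hw⟩ := exists_letters hO hZ ψ hinj hrange htψ L
  refine iso_of_letters_of_bound L hR hle hs ?_ ?_ fun P hP => card_le8 hP
  · rw [hw _ word_lt.1, ← mC_eq]; rfl
  · rw [hw _ word_lt.2, ← mY_eq]; rfl

end CfsgLib.Co3U.Glob
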