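import Cfsg.Agent.Co3U.Glob.Conj
import Cfsg.Agent.Co3U.Fusion
import Cfsg.Agent.Co3U.LocalModel

/-!
# A swap of the two involutions normalising a class

The image of a class under a swap is a group of order sixteen all whose nontrivial elements are conjugates
of the first involution; an element of the common centralizer moves it back.
-/

set_option autoImplicit false
set_option maxRecDepth 100000
set_option linter.unusedSectionVars false
set_option maxHeartbeats 400000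

namespace CfsgLib.Co3U.Glob

open Subgroup CfsgLib.Coset CfsgLib.McLEmb CfsgLib.Co3U.Facts
open CfsgLib.McLUniq (one two apM apM_lt W6 ClOK)

attribute [local irreducible] CfsgLib.Co3U.Facts.gS


/-- The first two involutions and their product. -/
def V8 : Set M8 := {1, -1, gS, -gS}

/-- A group of order sixteen over the two involutions, all elements off them conjugates of the second, is
moved into a class by an element of the common centralizer. -/
def PureHyp (c : McLUniq.Cl) : Prop :=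
  ∀ a ∈ Gam, ∀ b ∈ Gam, a * a = 1 → b * b = 1 → Commute a b → Commute a gS → Commute b gS → a ∉ V8 →
    (∀ d ∈ V8, b ≠ d ∧ b ≠ a * d) → (∀ u ∈ ({a, b, a * b} : Set M8), ∀ d ∈ V8, CG gS (u * d)) →
    ∃ k ∈ Gam, Commute k gS ∧ (∃ v < 16, k * a * k⁻¹ = ev LM8 (c.eW v)) ∧
      ∃ v < 16, k * b * k⁻¹ = ev LM8 (c.eW v)

theorem mS_coe : ((LocalModel.mS : Gam) : M8) = gS := rfl

theorem cg_of_has {u : List Nat} (h : CfsgLib.Co3U.Check.bstS.has (Mat.key (el8 u)) = true) :
    CG gS (ev LM8 u) := by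
  have hR := rep8 u
  generalize el8 u = S at hR h
  exact (class_s.2 _).2 (In.of_has hR h)

theorem pure_class {c : McLUniq.Cl} (h : pureOK c = true) {v : Nat} (hv : v < 16) (h4 : 4 ≤ v) :
    CG gS (ev LM8 (c.eW v)) := by
  refine cg_of_has ?_
  unfold pureOK at h
  have h' := List.all_eq_true.1 h v (List.mem_range.2 hv)
  rw [Bool.or_eq_true, decide_eq_true_eq] at h'
  exact h'.resolve_left (by omega)

variable {G : Type*} [Group G] {t : G} {ψ : Gam →* G} {Φ : Emb t} {x : G}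

theorem s_eq_psi (hx : IsMap ψ Φ x) : Φ.s = ψ LocalModel.mS := by
  rw [Emb.s, F_eq_wpsi hx McLUniq.Phi.sW_W6]
  exact congrArg ψ (Subtype.ext ev_sW)

/-- **A swap normalising the class.** -/
theorem exists_mover (hx : IsMap ψ Φ x) (hinj : Function.Injective ψ)
    (hrange : ∀ g, g ∈ centralizer ({t} : Set G) ↔ g ∈ ψ.range) (ht : ψ ⟨-1, neg_one_mem⟩ = t)
    {c0 y0 w0 : G} (L : Loc t (ψ LocalModel.mS) c0 y0 w0) {c : McLUniq.Cl} (hc : ClOK c)
    (hpure : pureOK c = true) (hP : PureHyp c) {g : G} (hgt : g * t * g⁻¹ = Φ.s)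
    (hgs : g * Φ.s * g⁻¹ = t) :
    ∃ g1 : G, (∀ v, v < 16 → Φ.InE c (g1 * Φ.e c v * g1⁻¹)) ∧ g1 * t * g1⁻¹ = Φ.s ∧
      g1 * Φ.s * g1⁻¹ = t := by
  have hcomm : ∀ a b : Gam, Commute (ψ a) (ψ b) → Commute (a : M8) b := fun a b h =>
    congrArg Subtype.val (hinj (show ψ (a * b) = ψ (b * a) by rw [map_mul, map_mul]; exact h))
  have hs := s_eq_psi hx
  -- the images and their preimages in the cover
  have hpre : ∀ v, ∃ γ : Gam, ψ γ = g * Φ.e c v * g⁻¹ := fun v => by
    have hvs : Commute (Φ.e c v) Φ.s := by rw [← Φ.e_two hc]; exact Φ.e_comm hc v 2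
    have := commute_conj g hvs
    rw [hgs] at this
    exact (hrange _).1 (mem_cen.2 this)
  choose γ hγ using hpre
  have hmul : ∀ v u, γ (v ^^^ u) = γ v * γ u := fun v u => hinj (by
    rw [map_mul, hγ, hγ, hγ, Φ.e_add hc]; group)
  have hne : ∀ {v u : Nat}, v < 16 → u < 16 → v ≠ u → (γ v : M8) ≠ γ u := fun {v u} hv hu hvu e => by
    refine hvu (Φ.e_inj hc hv hu ?_)
    have := congrArg ψ (Subtype.ext e : γ v = γ u)
    rw [hγ, hγ] at this
    exact mul_left_cancel (mul_right_cancel this)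
  have h0 : (γ 0 : M8) = 1 := congrArg Subtype.val (hinj (show ψ (γ 0) = ψ 1 by
    rw [hγ, Φ.e_zero hc, map_one]; group))
  have e1 : γ 1 = LocalModel.mS := hinj (by rw [hγ, Φ.e_one hc, hgt, hs])
  have h1 : (γ 1 : M8) = gS := by rw [e1]; exact mS_coe
  have h2 : (γ 2 : M8) = -1 := congrArg Subtype.val (hinj (show ψ (γ 2) = ψ ⟨-1, neg_one_mem⟩ by
    rw [hγ, Φ.e_two hc, hgs, ht]))
  have h3 : (γ 3 : M8) = -gS := by
    have e : γ 3 = γ 1 * γ 2 := hmul 1 2
    rw [e, Subgroup.coe_mul, h1, h2, mul_neg, mul_one]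
  have hV : ∀ d ∈ V8, ∃ j, j < 4 ∧ d = (γ j : M8) := by
    intro d hd
    rcases hd with rfl | rfl | rfl | rfl
    exacts [⟨0, by norm_num, h0.symm⟩, ⟨2, by norm_num, h2.symm⟩, ⟨1, by norm_num, h1.symm⟩,
      ⟨3, by norm_num, h3.symm⟩]
  have hgS : ∀ v, Commute (γ v : M8) gS := fun v => by
    have hvt : Commute (Φ.e c v) t := by
      have h := Φ.e_comm hc v 1
      rwa [Φ.e_one hc] at h
    have := commute_conj g hvt
    rw [← hγ, hgt, hs] at this
    rw [← mS_coe]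
    exact hcomm _ _ this
  have hts : IsConj t (ψ LocalModel.mS) := isConj_iff.2 ⟨g, hgt.trans hs⟩
  have hD : ∀ v, v < 16 → 4 ≤ v → CG gS (γ v : M8) := fun v hv h4 => by
    obtain ⟨η, hη, hηe⟩ := pure_class hpure hv h4
    have hev : IsConj t (Φ.e c v) := by
      refine hts.trans (isConj_iff.2 ⟨ψ ⟨η, hη⟩, ?_⟩)
      rw [e_eq_wpsi hx hc, wpsi, ← map_inv, ← map_mul, ← map_mul]
      exact congrArg ψ (Subtype.ext hηe)
    have hconj : IsConj t (g * Φ.e c v * g⁻¹) := hev.trans (isConj_iff.2 ⟨g, rfl⟩)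
    have hord : orderOf (g * Φ.e c v * g⁻¹) = 2 := by
      rw [orderOf_conj, orderOf_eq_prime_iff]
      exact ⟨by rw [sq, Φ.e_sq hc], fun e => by
        have := Φ.e_eq_one hc hv e
        omega⟩
    rcases L.classes _ ((hrange _).2 ⟨_, hγ v⟩) hord with h | ⟨h, hh, he⟩ | h
    · exfalso
      refine hne hv (show 2 < 16 by norm_num) (by omega) ?_
      rw [h2]
      exact congrArg Subtype.val (hinj (show ψ (γ v) = ψ ⟨-1, neg_one_mem⟩ by rw [hγ, h, ht]))
    · obtain ⟨θ, rfl⟩ := (hrange h).1 hh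
      refine ⟨θ, θ.2, ?_⟩
      rw [← hγ, ← map_inv, ← map_mul, ← map_mul] at he
      exact congrArg Subtype.val (hinj he)
    · exact absurd hconj (L.not_conj_of_c h)
  have hcoe : ∀ v u, ((γ v : Gam) : M8) * (γ u : M8) = (γ (v ^^^ u) : M8) := fun v u => by
    rw [hmul, Subgroup.coe_mul]
  -- the element moving the image back
  obtain ⟨k, hk, hks, ⟨va, hva, hka⟩, ⟨vb, hvb, hkb⟩⟩ := hP (γ 4) (γ 4).2 (γ 8) (γ 8).2
    (by rw [hcoe, Nat.xor_self, h0]) (by rw [hcoe, Nat.xor_self, h0])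
    (show (γ 4 : M8) * γ 8 = γ 8 * γ 4 by rw [hcoe, hcoe, Nat.xor_comm]) (hgS 4) (hgS 8)
    (fun hd => by
      obtain ⟨j, hj, e⟩ := hV _ hd
      exact hne (by norm_num) (by omega) (by omega) e)
    (fun d hd => by
      obtain ⟨j, hj, rfl⟩ := hV d hd
      refine ⟨hne (by norm_num) (by omega) (by omega), ?_⟩
      rw [hcoe]
      interval_cases j <;> exact hne (by norm_num) (by decide) (by decide))
    (fun u hu d hd => by
      obtain ⟨j, hj, rfl⟩ := hV d hd
      rcases hu with rfl | rfl | rfl <;> simp only [hcoe] <;> interval_cases j <;>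
        exact hD _ (by decide) (by decide))
  set κ : G := ψ ⟨k, hk⟩ with hκ
  have hκt : κ * t * κ⁻¹ = t := by
    rw [mul_inv_eq_iff_eq_mul]
    exact mem_cen.1 ((hrange κ).2 ⟨_, rfl⟩)
  have hκs : κ * Φ.s * κ⁻¹ = Φ.s := by
    rw [hs, hκ, ← map_inv, ← map_mul, ← map_mul]
    refine congrArg ψ (Subtype.ext ?_)
    rw [Subgroup.coe_mul, Subgroup.coe_mul, Subgroup.coe_inv, mS_coe]
    show k * gS * k⁻¹ = gS
    rw [hks.eq, mul_inv_cancel_right]
  have him : ∀ (j v : Nat), v < 16 → k * (γ j : M8) * k⁻¹ = ev LM8 (c.eW v) →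
      Φ.InE c (κ * g * Φ.e c j * (κ * g)⁻¹) := fun j v hv e => by
    refine ⟨v, hv, ?_⟩
    calc κ * g * Φ.e c j * (κ * g)⁻¹ = κ * (g * Φ.e c j * g⁻¹) * κ⁻¹ := by group
      _ = Φ.e c v := by
        rw [← hγ, hκ, ← map_inv, ← map_mul, ← map_mul, e_eq_wpsi hx hc]
        exact congrArg ψ (Subtype.ext e)
  have h1t : κ * g * t * (κ * g)⁻¹ = Φ.s := by
    calc κ * g * t * (κ * g)⁻¹ = κ * (g * t * g⁻¹) * κ⁻¹ := by group
      _ = Φ.s := by rw [hgt, hκs]
  have h1s : κ * g * Φ.s * (κ * g)⁻¹ = t := by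
    calc κ * g * Φ.s * (κ * g)⁻¹ = κ * (g * Φ.s * g⁻¹) * κ⁻¹ := by group
      _ = t := by rw [hgs, hκt]
  refine ⟨κ * g, fun v hv => ?_, h1t, h1s⟩
  have hb : ∀ i, i < 4 → κ * g * Φ.bel c i * (κ * g)⁻¹ ∈ Φ.Esub hc := fun i hi => by
    rw [← Φ.e_pow hc i hi]
    interval_cases i
    · exact ⟨2, by norm_num, by rw [show (2 : Nat) ^ 0 = 1 from rfl, Φ.e_one hc, h1t, Φ.e_two hc]⟩
    · exact ⟨1, by norm_num, by rw [show (2 : Nat) ^ 1 = 2 from rfl, Φ.e_two hc, h1s, Φ.e_one hc]⟩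
    · exact him _ va hva hka
    · exact him _ vb hvb hkb
  have hpick : ∀ i, i < 4 →
      κ * g * (if v.testBit i then Φ.bel c i else 1) * (κ * g)⁻¹ ∈ Φ.Esub hc := fun i hi => by
    split
    · exact hb i hi
    · rw [mul_one, mul_inv_cancel]; exact one_mem _
  have hprod := mul_mem (hpick 0 (by norm_num)) (mul_mem (hpick 1 (by norm_num))
    (mul_mem (hpick 2 (by norm_num)) (hpick 3 (by norm_num))))
  show κ * g * Φ.e c v * (κ * g)⁻¹ ∈ Φ.Esub hc
  rw [Φ.e_formula]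
  convert hprod using 1
  group

end CfsgLib.Co3U.Glob
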