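import Cfsg.Agent.Co3U.Glob.Base
import Cfsg.Agent.McLUniq.GTests

/-!
# Checks on the letters in the matrix cover
-/

set_option autoImplicit false
set_option maxRecDepth 100000
set_option Elab.async false

namespace CfsgLib.Co3U.Glob

open CfsgLib.Co3U.Mat CfsgLib.Co3U.Data CfsgLib.Co3U.Check

/-- The matrix of a word in the eight letters, as masks. -/
def el8 (w : List Nat) : St := el (w.flatMap fun l => gamW.getD l [])

/-- The relators, the two involutions and the generators. -/
def setupOK : Bool :=
  (rels6 ++ [[7, 7]] ++ relsC).all (fun r => eqS (el8 r) one) &&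
  eqS (el8 McLUniq.tW) neg1 && eqS (el8 McLUniq.sW) sS &&
  (List.range 6).all (fun i => eqS (el8 (gensW.getD i [])) (gens.getD i one))

/-- Pairwise different entries. -/
def nodupN : List Nat → Bool
  | [] => true
  | a :: l => !l.any (Nat.beq a) && nodupN l

/-- Keys of the conjugates of the second involution. -/
def orbK : List Nat :=
  McLUniq.orbW.map fun r => key (el8 (r ++ McLUniq.sW ++ McLUniq.invW r))

/-- Keys of the centralizer of both involutions. -/
def dK : List Nat := McLUniq.dW.map fun r => key (el8 r)

/-- The image has at least `210 · 192` elements. -/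
def bigOK : Bool :=
  Nat.beq McLUniq.orbW.length 210 && McLUniq.orbW.all McLUniq.Cl.inH &&
  Nat.beq McLUniq.dW.length 192 && McLUniq.dW.all McLUniq.inK &&
  nodupN orbK && nodupN dK && McLUniq.dW.all (fun r => commS sS (el8 r))

theorem setup_ok : setupOK = true := by decide +kernel

theorem big_ok : bigOK = true := by decide +kernel

end CfsgLib.Co3U.Glob
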