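import Cfsg.Agent.Co3U.Glob.SetupEv

/-!
# The six letters embed
-/

set_option autoImplicit false
set_option maxRecDepth 100000
set_option linter.style.haveILetI false

namespace CfsgLib.Co3U.Glob

open Subgroup CfsgLib.Coset CfsgLib.Co3U.Mat CfsgLib.Co3U.Data CfsgLib.Co3U.Check CfsgLib.Co3U.Facts
open CfsgLib.McLUniq (L0 W6 subH mem_subH)

attribute [local irreducible] el8 key LM8 gamW McLUniq.orbW McLUniq.dW

/-- A map of the six letters to their matrices is injective when the source has at most 40320 elements. -/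
theorem inj_of_card (h : ↥(subH L0) →* M8) (hh : ∀ l < 6, ∀ hl, h ⟨fl L0 l, hl⟩ = fl LM8 l)
    (hfin : Finite (subH L0)) (hc : Nat.card (subH L0) ≤ 40320) : Function.Injective h := by
  classical
  have hev : ∀ w, (hw : W6 w) → h ⟨ev L0 w, mem_subH hw⟩ = ev LM8 w := by
    intro w
    induction w with
    | nil => intro _; exact map_one h
    | cons l w ih =>
      intro hw
      have hl : l < 6 := hw l List.mem_cons_self
      have hw' : W6 w := fun k hk => hw k (List.mem_cons_of_mem _ hk)
      rw [show (⟨ev L0 (l :: w), mem_subH hw⟩ : ↥(subH L0)) =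
          ⟨fl L0 l, McLUniq.fl_mem_subH hl⟩ * ⟨ev L0 w, mem_subH hw'⟩ from Subtype.ext (ev_cons _ l w),
        map_mul, hh l hl, ih hw', ev_cons]
  have hb := big_ok
  simp only [bigOK, Bool.and_eq_true, Nat.beq_eq, List.all_eq_true] at hb
  obtain ⟨⟨⟨⟨⟨⟨hol, hoH⟩, hdl⟩, hdK⟩, hon⟩, hdn⟩, hds⟩ := hb
  have hoW : ∀ i, W6 (McLUniq.orbW.getD i []) := fun i => by
    rcases lt_or_ge i McLUniq.orbW.length with hi | hi
    · rw [List.getD_eq_getElem _ _ hi]; exact McLUniq.w6_of_inH (hoH _ (List.getElem_mem hi))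
    · rw [List.getD_eq_default _ _ hi]; exact McLUniq.W6.nil
  have hdW : ∀ i, W6 (McLUniq.dW.getD i []) := fun i => by
    rcases lt_or_ge i McLUniq.dW.length with hi | hi
    · rw [List.getD_eq_getElem _ _ hi]; exact McLUniq.W6.of_inK (hdK _ (List.getElem_mem hi))
    · rw [List.getD_eq_default _ _ hi]; exact McLUniq.W6.nil
  let R : Fin 210 → M8 := fun i => ev LM8 (McLUniq.orbW.getD i.val [])
  let D : Fin 192 → M8 := fun i => ev LM8 (McLUniq.dW.getD i.val [])
  have hinv : ∀ w, W6 w → ev LM8 (McLUniq.invW w) = (ev LM8 w)⁻¹ := fun w hw => by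
    rw [← hev _ hw.invW, ← hev _ hw, ← map_inv]
    exact congrArg h (Subtype.ext (McLUniq.ev_invW w))
  have hDc : ∀ j, D j * gS * (D j)⁻¹ = gS := fun j => by
    have hm : McLUniq.dW.getD j.val [] ∈ McLUniq.dW := by
      rw [List.getD_eq_getElem _ _ (show j.val < McLUniq.dW.length by omega)]; exact List.getElem_mem _
    have hc' : Commute gS (D j) := (commS_iff rS (rep8 _)).1 (hds _ hm)
    rw [← hc'.eq, mul_inv_cancel_right]
  have hF : Function.Injective (fun p : Fin 210 × Fin 192 => R p.1 * D p.2) := by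
    rintro ⟨i, j⟩ ⟨i', j'⟩ e
    have e' : R i * D j = R i' * D j' := e
    have hconj : ∀ i j, R i * D j * gS * (R i * D j)⁻¹ = R i * gS * (R i)⁻¹ := fun i j => by
      calc R i * D j * gS * (R i * D j)⁻¹ = R i * (D j * gS * (D j)⁻¹) * (R i)⁻¹ := by group
        _ = R i * gS * (R i)⁻¹ := by rw [hDc]
    have e2 : R i * gS * (R i)⁻¹ = R i' * gS * (R i')⁻¹ := by rw [← hconj i j, ← hconj i' j', e']
    have hk : ∀ i : Fin 210, Rep (el8 (McLUniq.orbW.getD i.val [] ++ McLUniq.sW ++
        McLUniq.invW (McLUniq.orbW.getD i.val []))) (R i * gS * (R i)⁻¹) := fun i => by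
      have := rep8 (McLUniq.orbW.getD i.val [] ++ McLUniq.sW ++ McLUniq.invW (McLUniq.orbW.getD i.val []))
      rwa [ev_append, ev_append, ev_sW, hinv _ (hoW _)] at this
    have hkey : ∀ i : Fin 210, orbK.getD i.val 0 = key (el8 (McLUniq.orbW.getD i.val [] ++ McLUniq.sW ++
        McLUniq.invW (McLUniq.orbW.getD i.val []))) := fun i => by
      simp [orbK, List.getD_eq_getElem?_getD, List.getElem?_eq_getElem (show i.val < McLUniq.orbW.length by omega)]
    have hii : i = i' := Fin.ext (nodupN_inj hon (by simp [orbK]; omega) (by simp [orbK]; omega) (by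
      have hk' := hk i'
      rw [← e2] at hk'
      rw [hkey, hkey, (hk i).unique hk']))
    subst hii
    have e3 : D j = D j' := mul_left_cancel e'
    have hdk : ∀ j : Fin 192, dK.getD j.val 0 = key (el8 (McLUniq.dW.getD j.val [])) := fun j => by
      simp [dK, List.getD_eq_getElem?_getD, List.getElem?_eq_getElem (show j.val < McLUniq.dW.length by omega)]
    have hr : Rep (el8 (McLUniq.dW.getD j'.val [])) (D j) := by
      rw [e3]; exact rep8 (McLUniq.dW.getD j'.val [])
    exact Prod.ext rfl (Fin.ext (nodupN_inj hdn (by simp [dK]; omega) (by simp [dK]; omega) (by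
      rw [hdk, hdk, (rep8 (McLUniq.dW.getD j.val [])).unique hr])))
  have hlow : 40320 ≤ Nat.card h.range := by
    rw [show 40320 = Nat.card (Fin 210 × Fin 192) by simp]
    haveI : Finite h.range := Finite.of_surjective h.rangeRestrict h.rangeRestrict_surjective
    refine Nat.card_le_card_of_injective (fun p : Fin 210 × Fin 192 => (⟨R p.1 * D p.2, ?_⟩ : h.range))
      fun a b e => hF (congrArg Subtype.val e)
    exact mul_mem ⟨_, hev _ (hoW _)⟩ ⟨_, hev _ (hdW _)⟩
  haveI := hfin
  have hsurj := h.rangeRestrict_surjective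
  have hbij : Function.Bijective h.rangeRestrict := by
    rw [Nat.bijective_iff_surjective_and_card]
    exact ⟨hsurj, le_antisymm (hc.trans hlow) (Nat.card_le_card_of_surjective _ hsurj)⟩
  exact fun a b e => hbij.1 (Subtype.ext e)

end CfsgLib.Co3U.Glob
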