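import Cfsg.Agent.Co3U.Glob.SetupEv

/-!
# Equalities of words in the eight letters from their masks
-/

set_option autoImplicit false

namespace CfsgLib.Co3U.Glob

open CfsgLib.Coset CfsgLib.Co3U.Check

theorem eq_of_el8 {u v : List Nat} (h : eqS (el8 u) (el8 v) = true) : ev LM8 u = ev LM8 v :=
  Facts.eq_of_eqS (rep8 u) (rep8 v) h

theorem ne_of_el8 {u v : List Nat} (h : eqS (el8 u) (el8 v) = false) : ev LM8 u ≠ ev LM8 v := fun e => by
  rw [Facts.eqS_of_eq (rep8 u) (rep8 v) e] at h
  exact Bool.noConfusion h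

end CfsgLib.Co3U.Glob
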